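import Mathlib
import Cfsg.Agent.Lib.Helper35.Quad2Mat
import Cfsg.Agent.Lib.Helper11.Dickson.InvThree

set_option autoImplicit false

/-! Characteristic `3`: a `3`-element normalizing, but not centralizing, a `2`-subgroup of a
finite subgroup of `SL₂(K)`; the product of the element with a suitable conjugate has trace `-2`. -/

namespace Cfsg.Agent.Lib.Helper35.Qd

open Matrix Cfsg
open scoped MatrixGroups

universe u v

variable {K : Type v} [Field K]

/-- Cayley–Hamilton in degree two -/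
theorem ch2 (M : Matrix (Fin 2) (Fin 2) K) : M * M = M.trace • M - M.det • (1 : Matrix (Fin 2) (Fin 2) K) := by
  ext i j
  fin_cases i <;> fin_cases j <;>
    simp [Matrix.mul_apply, Fin.sum_univ_two, Matrix.trace_fin_two, Matrix.det_fin_two] <;> ring

/-- for trace two and determinant one, `(M - 1)² = 0` -/
theorem sub_one_sq_of_trace_two {M : Matrix (Fin 2) (Fin 2) K} (ht : M.trace = 2) (hd : M.det = 1) :
    (M - 1) * (M - 1) = 0 := by
  have h := ch2 M
  rw [ht, hd, one_smul] at h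
  have : (M - 1) * (M - 1) = M * M - (2 : K) • M + 1 := by
    rw [two_smul]; noncomm_ring
  rw [this, h]
  abel

/-- powers of `1 + N` with `N² = 0` -/
theorem one_add_pow_of_sq {N : Matrix (Fin 2) (Fin 2) K} (h : N * N = 0) (n : ℕ) :
    (1 + N) ^ n = 1 + (n : K) • N := by
  induction n with
  | zero => simp
  | succ n ih =>
    rw [pow_succ, ih, add_mul, mul_add, mul_add, one_mul, mul_one, smul_mul_assoc, h, smul_zero,
      add_zero, Nat.cast_succ, add_smul, one_smul, one_mul]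
    abel

theorem pow_of_sub_one_sq {M : Matrix (Fin 2) (Fin 2) K} (h : (M - 1) * (M - 1) = 0) (n : ℕ) :
    M ^ n = 1 + (n : K) • (M - 1) := by
  have := one_add_pow_of_sq h n
  rwa [add_sub_cancel] at this

/-- a `2`-element of trace two and determinant one is trivial, in odd characteristic -/
theorem eq_one_of_two_pow_of_trace_two {p : ℕ} [Fact p.Prime] [CharP K p] (hp2 : p ≠ 2)
    {M : Matrix (Fin 2) (Fin 2) K} (ht : M.trace = 2) (hd : M.det = 1) (i : ℕ)
    (hM : M ^ (2 ^ i) = 1) : M = 1 := by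
  have h := sub_one_sq_of_trace_two ht hd
  rw [pow_of_sub_one_sq h] at hM
  have h1 : ((2 ^ i : ℕ) : K) • (M - 1) = 0 := by
    have := congrArg (fun X => X - 1) hM
    simpa using this
  have h2 : ((2 ^ i : ℕ) : K) ≠ 0 := by
    rw [Ne, CharP.cast_eq_zero_iff K p]
    intro hdvd
    have := (Nat.Prime.dvd_of_dvd_pow Fact.out hdvd)
    exact hp2 ((Nat.prime_dvd_prime_iff_eq Fact.out Nat.prime_two).mp this)
  rcases smul_eq_zero.mp h1 with h3 | h3
  · exact absurd h3 h2
  · exact sub_eq_zero.mp h3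

/-- the inverse of a matrix of trace two and determinant one -/
theorem mul_two_sub_of_trace_two {M : Matrix (Fin 2) (Fin 2) K} (ht : M.trace = 2) (hd : M.det = 1) :
    M * ((2 : K) • 1 - M) = 1 := by
  have h := ch2 M
  rw [ht, hd, one_smul] at h
  rw [mul_sub, h, mul_smul_comm, mul_one]
  abel


open Cfsg.Agent.Lib.Helper11.Dickson Cfsg.Agent.Lib.Helper35.Quad2 in
/-- **The trace computation**: in characteristic `3`, a `3`-element `x` normalizing but not
centralizing a `2`-subgroup, `q` in that subgroup not commuting with `x`: the product of `x` and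
`q x q⁻¹` has trace `-2`. -/
theorem trace_mul_conj {Y : Type u} [Group Y] [CharP K 3] (ψ : Y →* Matrix (Fin 2) (Fin 2) K)
    (hψ : Function.Injective ψ) (hdet : ∀ g, (ψ g).det = 1) (T : Subgroup Y) (hT : IsPGroup 2 T)
    (x q : Y) (hxN : x ∈ Subgroup.normalizer (T : Set Y)) (k : ℕ) (hx3 : x ^ (3 ^ k) = 1)
    (hqT : q ∈ T) (hxq : x * q * x⁻¹ ≠ q) :
    (ψ x * ψ (q * x * q⁻¹)).trace = -2 := by
  have : Fact (Nat.Prime 3) := ⟨Nat.prime_three⟩
  have h2K : (2 : K) ≠ 0 := by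
    intro h
    have h3 : ((2 : ℕ) : K) = 0 := by exact_mod_cast h
    rw [CharP.cast_eq_zero_iff K 3] at h3
    omega
  have h3K : ((3 : ℕ) : K) = 0 := CharP.cast_eq_zero K 3
  have htx : (ψ x).trace = 2 :=
    trace_eq_two_of_pow_mat (p := 3) (k := k) (by rw [← map_pow, hx3, map_one])
  have hNx := sub_one_sq_of_trace_two htx (hdet x)
  have hx3' : x ^ 3 = 1 := by
    apply hψ
    rw [map_pow, pow_of_sub_one_sq hNx 3, map_one, h3K, zero_smul, add_zero]
  obtain ⟨y, hy⟩ : ∃ y : Y, y = q * x * q⁻¹ := ⟨_, rfl⟩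
  rw [← hy]
  have hty : (ψ y).trace = 2 := by
    apply trace_eq_two_of_pow_mat (p := 3) (k := k)
    rw [← map_pow, hy, conj_pow, hx3, mul_one, mul_inv_cancel, map_one]
  obtain ⟨w, hw⟩ : ∃ w : Y, w = x * y := ⟨_, rfl⟩
  have hψw : ψ x * ψ y = ψ w := by rw [hw, map_mul]
  rw [hψw]
  -- conjugation by powers of `x` preserves `T`
  have hconj : ∀ (n : ℕ) (t : Y), t ∈ T → x ^ n * t * (x ^ n)⁻¹ ∈ T := by
    intro n t ht
    exact (Subgroup.mem_normalizer_iff.mp (Subgroup.pow_mem _ hxN n) t).mp ht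
  obtain ⟨t, ht⟩ : ∃ t : Y, t = (x * q * x⁻¹) * (x ^ 2 * q⁻¹ * (x ^ 2)⁻¹) := ⟨_, rfl⟩
  have htT : t ∈ T := by
    rw [ht]
    apply T.mul_mem
    · have := hconj 1 q hqT
      rwa [pow_one] at this
    · exact hconj 2 _ (T.inv_mem hqT)
  have hwt : w = t * x ^ 2 := by rw [hw, hy, ht]; group
  have hwn : ∀ n : ℕ, ∃ tn ∈ T, w ^ n = tn * x ^ (2 * n) := by
    intro n
    induction n with
    | zero => exact ⟨1, T.one_mem, by simp⟩
    | succ n ih =>
      obtain ⟨tn, htn, hn⟩ := ih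
      refine ⟨tn * (x ^ (2 * n) * t * (x ^ (2 * n))⁻¹), T.mul_mem htn (hconj _ t htT), ?_⟩
      rw [pow_succ, hn, hwt, Nat.mul_succ, pow_add]
      group
  have hx6 : x ^ 6 = 1 := by
    have : x ^ 6 = (x ^ 3) ^ 2 := by rw [← pow_mul]
    rw [this, hx3', one_pow]
  have hw3 : w ^ 3 ∈ T := by
    obtain ⟨t3, ht3, h3⟩ := hwn 3
    rw [h3]
    norm_num
    rw [hx6, mul_one]
    exact ht3
  -- the contradiction when `x ∈ T`
  have hxnT : x ∉ T := by
    intro hxT
    obtain ⟨i, hi⟩ := hT ⟨x, hxT⟩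
    have hi' : x ^ (2 ^ i) = 1 := by
      have := congrArg Subtype.val hi
      simpa using this
    have h1 : orderOf x ∣ 2 ^ i := orderOf_dvd_of_pow_eq_one hi'
    have h2 : orderOf x ∣ 3 := orderOf_dvd_of_pow_eq_one hx3'
    have hcop : Nat.Coprime (2 ^ i) 3 := Nat.Coprime.pow_left i (by norm_num)
    have h3 : orderOf x ∣ 1 := by
      have := Nat.dvd_gcd h1 h2
      rwa [hcop] at this
    have hx1 : x = 1 := orderOf_eq_one_iff.mp (Nat.dvd_one.mp h3)
    apply hxq
    rw [hx1]; group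
  -- the order of `w ^ 3`
  obtain ⟨i₀, hi₀⟩ := hT ⟨w ^ 3, hw3⟩
  have hi₀' : (w ^ 3) ^ (2 ^ i₀) = 1 := by
    have := congrArg Subtype.val hi₀
    simpa using this
  obtain ⟨j, -, hj⟩ := (Nat.dvd_prime_pow Nat.prime_two).mp (orderOf_dvd_of_pow_eq_one hi₀')
  -- the inverse of `ψ y`
  have hyinv : ψ y⁻¹ = (2 : K) • 1 - ψ y := by
    have h1 := mul_two_sub_of_trace_two hty (hdet y)
    have h2 : ψ y⁻¹ * ψ y = 1 := by rw [← map_mul, inv_mul_cancel, map_one]
    calc ψ y⁻¹ = ψ y⁻¹ * (ψ y * ((2 : K) • 1 - ψ y)) := by rw [h1, mul_one]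
      _ = (ψ y⁻¹ * ψ y) * ((2 : K) • 1 - ψ y) := by rw [mul_assoc]
      _ = _ := by rw [h2, one_mul]
  rcases Nat.eq_zero_or_pos j with hj0 | hjpos
  · -- `w ^ 3 = 1`
    exfalso
    rw [hj0, pow_zero, orderOf_eq_one_iff] at hj
    have htw : (ψ w).trace = 2 :=
      trace_eq_two_of_pow_mat (p := 3) (k := 1) (by rw [← map_pow, pow_one, hj, map_one])
    obtain ⟨c₂, hc₂⟩ : ∃ c₂ : Y, c₂ = x * y⁻¹ := ⟨_, rfl⟩
    have hc₂T : c₂ ∈ T := by
      have : c₂ = (x * q * x⁻¹) * q⁻¹ := by rw [hc₂, hy]; group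
      rw [this]
      apply T.mul_mem _ (T.inv_mem hqT)
      have := hconj 1 q hqT
      rwa [pow_one] at this
    have htc : (ψ c₂).trace = 2 := by
      rw [hc₂, map_mul, hyinv, mul_sub, Matrix.trace_sub, hψw, htw, mul_smul_comm, mul_one,
        Matrix.trace_smul, htx]
      simp
      norm_num
    obtain ⟨i, hi⟩ := hT ⟨c₂, hc₂T⟩
    have hi' : (ψ c₂) ^ (2 ^ i) = 1 := by
      have := congrArg Subtype.val hi
      simp only [Subgroup.coe_pow, Subgroup.coe_one] at this
      rw [← map_pow, this, map_one]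
    have h1 := eq_one_of_two_pow_of_trace_two (p := 3) (by norm_num) htc (hdet c₂) i hi'
    have h2 : c₂ = 1 := hψ (by rw [h1, map_one])
    apply hxq
    have : x * q * x⁻¹ = c₂ * q := by rw [hc₂, hy]; group
    rw [this, h2, one_mul]
  · obtain ⟨j', rfl⟩ : ∃ j', j = j' + 1 := ⟨j - 1, by omega⟩
    obtain ⟨z, hz⟩ : ∃ z : Y, z = (w ^ 3) ^ (2 ^ j') := ⟨_, rfl⟩
    have hz2 : z * z = 1 := by
      rw [hz, ← pow_two, ← pow_mul, ← pow_succ, ← hj, pow_orderOf_eq_one]
    have hz1 : z ≠ 1 := by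
      intro h
      rw [hz] at h
      have h1 := orderOf_dvd_of_pow_eq_one h
      rw [hj] at h1
      have := Nat.le_of_dvd (by positivity) h1
      rw [pow_succ] at this
      have : 0 < 2 ^ j' := by positivity
      omega
    have hψz : ψ z = -1 := by
      rcases eq_one_or_neg_one_of_sq h2K (ψ z) (by rw [← map_mul, hz2, map_one]) (hdet z) with h | h
      · exact absurd (hψ (by rw [h, map_one])) hz1
      · exact h
    obtain ⟨r₁, hr₁⟩ : ∃ r₁, r₁ = ψ w ^ (2 ^ j') := ⟨_, rfl⟩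
    have hr₁3 : r₁ ^ 3 = -1 := by
      have e : (w ^ 3) ^ (2 ^ j') = (w ^ (2 ^ j')) ^ 3 := by
        rw [← pow_mul, ← pow_mul, mul_comm]
      rw [hr₁, ← hψz, hz, e, map_pow, map_pow]
    have htr₁ : r₁.trace = -2 := by
      have h1 : (-r₁) ^ (3 ^ 1) = 1 := by
        rw [pow_one, Odd.neg_pow (by decide), hr₁3, neg_neg]
      have h2 := trace_eq_two_of_pow_mat (p := 3) (k := 1) h1
      rw [Matrix.trace_neg] at h2
      linear_combination -h2
    rcases Nat.eq_zero_or_pos j' with hj'0 | hj'pos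
    · rw [hj'0, pow_zero, pow_one] at hr₁
      rw [← hr₁]
      exact htr₁
    · exfalso
      obtain ⟨j'', rfl⟩ : ∃ j'', j' = j'' + 1 := ⟨j' - 1, by omega⟩
      obtain ⟨r, hr⟩ : ∃ r, r = ψ w ^ (2 ^ j'') := ⟨_, rfl⟩
      have hrr : r * r = r₁ := by
        rw [hr, hr₁, ← pow_two, ← pow_mul, ← pow_succ]
      have hdr : r.det = 1 := by rw [hr, Matrix.det_pow, hdet, one_pow]
      have hch := ch2 r
      rw [hdr, one_smul, hrr] at hch
      have hdr₁ : r₁.det = 1 := by rw [hr₁, Matrix.det_pow, hdet, one_pow]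
      have hN : (-r₁ - 1) * (-r₁ - 1) = 0 := by
        apply sub_one_sq_of_trace_two
        · rw [Matrix.trace_neg, htr₁, neg_neg]
        · rw [Matrix.det_neg, hdr₁]
          simp
      have e1 : -r₁ - 1 = -(r.trace • r) := by rw [hch]; abel
      rw [e1, neg_mul_neg, smul_mul_smul_comm, hrr] at hN
      have hρ : r.trace * r.trace = 0 := by
        have h1 := congrArg (fun X => X * (r₁ * r₁)) hN
        simp only [zero_mul, smul_mul_assoc] at h1
        have h2 : r₁ * (r₁ * r₁) = -1 := by rw [← hr₁3, pow_succ, pow_two, mul_assoc]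
        rw [h2] at h1
        have h3 := congrFun (congrFun h1 0) 0
        simpa using h3
      have hρ0 : r.trace = 0 := mul_self_eq_zero.mp hρ
      rw [hρ0, zero_smul, zero_sub] at hch
      -- `w` is a `2`-element
      have hw2 : w ^ (2 ^ (j'' + 1 + 1)) = 1 := by
        apply hψ
        rw [map_pow, pow_succ, pow_mul, ← hr₁, hch, map_one]
        simp
      obtain ⟨tn, htn, hn⟩ := hwn (2 ^ (j'' + 1 + 1))
      rw [hw2] at hn
      have hxm : x ^ (2 * 2 ^ (j'' + 1 + 1)) ∈ T := by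
        have : x ^ (2 * 2 ^ (j'' + 1 + 1)) = tn⁻¹ := eq_inv_of_mul_eq_one_right hn.symm
        rw [this]
        exact T.inv_mem htn
      obtain ⟨m, hm⟩ : ∃ m, 2 * 2 ^ (j'' + 1 + 1) = 2 ^ m := ⟨j'' + 1 + 1 + 1, by ring⟩
      rw [hm] at hxm
      apply hxnT
      have h4 : x = (x ^ (2 ^ m)) ^ (2 ^ m) := by
        have e4 : 2 ^ m * 2 ^ m % 3 = 1 := by
          have : 2 ^ m * 2 ^ m = 4 ^ m := by
            rw [← mul_pow]
            norm_num
          rw [this, Nat.pow_mod]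
          norm_num
        rw [← pow_mul, pow_eq_pow_mod _ hx3', e4, pow_one]
      rw [h4]
      exact T.pow_mem hxm _

end Cfsg.Agent.Lib.Helper35.Qd
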