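import Mathlib
import Cfsg.Agent.Lib.Helper11.Dickson.MainE
import Cfsg.Agent.Lib.Helper35.Qd.Unip

set_option autoImplicit false

/-! A pair of "root elements" with an eigenvector: the regular case of the fixed point count. -/

namespace Cfsg.Agent.Lib.Helper35.Qd

open Matrix Cfsg Cfsg.Agent.Lib.Helper11.Dickson Matrix.GeneralLinearGroup OnePoint MulAction
open scoped MatrixGroups

universe u v

variable {K : Type v} [Field K]

/-- the image of an inverse, from a right inverse of the image -/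
theorem map_inv_of_mul_eq_one {H : Type u} [Group H] {M : Type*} [Monoid M] (φ : H →* M) (x : H)
    (N : M) (h : φ x * N = 1) : φ x⁻¹ = N := by
  calc φ x⁻¹ = φ x⁻¹ * (φ x * N) := by rw [h, mul_one]
    _ = (φ x⁻¹ * φ x) * N := by rw [mul_assoc]
    _ = N := by rw [← map_mul, inv_mul_cancel, map_one, one_mul]

/-- the pair in the presence of `[[1,1],[0,1]]` -/
theorem pair_of_upper_one {H : Type u} [Group H] (φ : H →* Matrix (Fin 2) (Fin 2) K) (b c₀ : H)
    (hφb : φ b = !![1, 0; 1, 1]) (hφc : φ c₀ = !![1, 1; 0, 1])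
    (Q : H → Prop) (hQc : ∀ g x, Q x → Q (g * x * g⁻¹)) (hQi : ∀ x, Q x → Q x⁻¹) (hQb : Q b) :
    ∃ c b' : H, Q c ∧ Q b' ∧ ∃ s : Fin 2 → K, s ≠ 0 ∧ (φ c - 1) *ᵥ ((φ b' - 1) *ᵥ s) = s := by
  have hbi : φ b⁻¹ = !![1, 0; -1, 1] := by
    apply map_inv_of_mul_eq_one
    rw [hφb]
    ext i j
    fin_cases i <;> fin_cases j <;> simp [Matrix.mul_apply, Fin.sum_univ_two]
  have hci : φ c₀⁻¹ = !![1, -1; 0, 1] := by
    apply map_inv_of_mul_eq_one
    rw [hφc]
    ext i j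
    fin_cases i <;> fin_cases j <;> simp [Matrix.mul_apply, Fin.sum_univ_two]
  obtain ⟨s₁, hs₁⟩ : ∃ s₁ : H, s₁ = b * c₀⁻¹ * b := ⟨_, rfl⟩
  have hφs : φ s₁ = !![0, -1; 1, 0] := by
    rw [hs₁, map_mul, map_mul, hφb, hci]
    ext i j
    fin_cases i <;> fin_cases j <;> simp [Matrix.mul_apply, Fin.sum_univ_two]
  have hsi : φ s₁⁻¹ = !![0, 1; -1, 0] := by
    apply map_inv_of_mul_eq_one
    rw [hφs]
    ext i j
    fin_cases i <;> fin_cases j <;> simp [Matrix.mul_apply, Fin.sum_univ_two]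
  refine ⟨s₁ * b⁻¹ * s₁⁻¹, b, hQc _ _ (hQi _ hQb), hQb, ![1, 0], ?_, ?_⟩
  · intro h
    have := congrFun h 0
    simp at this
  · rw [map_mul, map_mul, hφs, hbi, hsi, hφb]
    ext i
    fin_cases i <;> simp [Matrix.mulVec, dotProduct, Fin.sum_univ_two]

end Cfsg.Agent.Lib.Helper35.Qd
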