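import Mathlib
import Cfsg.Agent.Lib.Helper11.Dickson.MainE
import Cfsg.Agent.Lib.Helper35.Qd.EigenA

set_option autoImplicit false
set_option linter.unusedSectionVars false

/-! When the image of the unitriangular elements has prime order, every nonidentity `p`-element is
conjugate to a power of the given translation. -/

namespace Cfsg.Agent.Lib.Helper35.Qd

open Matrix Cfsg Cfsg.Agent.Lib.Helper11.Dickson Matrix.GeneralLinearGroup OnePoint MulAction
open scoped MatrixGroups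

universe u v

variable {K : Type v} [Field K] [DecidableEq K]
variable {L : Subgroup (GL (Fin 2) K)}

theorem mkG_zpow {g : GL (Fin 2) K} (hg : g ∈ L) (n : ℤ) :
    (mkG hg) ^ n = mkG (L.zpow_mem hg n) := by
  apply Subtype.ext
  rw [Subgroup.coe_zpow]
  show (toP g) ^ n = toP (g ^ n)
  rw [map_zpow]

theorem conj_upper_of_card_prime (p : ℕ) [Fact p.Prime] [CharP K p] (h2 : (2 : K) ≠ 0) [Finite L]
    (hdet : ∀ g ∈ L, g.val.det = 1) {l : K} (hl : l ≠ 0) (hU : upperRightHom l ∈ L)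
    (hcard : Nat.card ↥(PL L) = p) {g : GL (Fin 2) K} (hgL : g ∈ L) {k : ℕ}
    (hg : g ^ (p ^ k) = 1) (hg1 : g ≠ 1) :
    ∃ h ∈ L, ∃ n : ℤ, g = h * (upperRightHom l) ^ n * h⁻¹ := by
  have : NeZero (2 : K) := ⟨h2⟩
  have gpar := isParabolic_of_pow hg hg1 (hdet g hgL) h2
  have hfix : g • parabolicFixedPoint g = parabolicFixedPoint g := gpar.smul_eq_self_iff.mpr rfl
  obtain ⟨h, hhL, hh⟩ := exists_smul_infty_eq p h2 hdet hl hU hgL gpar hfix
  obtain ⟨g', hg'⟩ : ∃ g' : GL (Fin 2) K, g' = h⁻¹ * g * h := ⟨_, rfl⟩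
  have hg'L : g' ∈ L := by
    rw [hg']
    exact L.mul_mem (L.mul_mem (L.inv_mem hhL) hgL) hhL
  have hg'inf : g' • (∞ : OnePoint K) = ∞ := by
    rw [hg', mul_smul, mul_smul, hh, hfix, ← hh, inv_smul_smul]
  have hg'pow : g' ^ (p ^ k) = 1 := by
    have : g' = h⁻¹ * g * (h⁻¹)⁻¹ := by rw [hg', inv_inv]
    rw [this, conj_pow, hg, mul_one, mul_inv_cancel]
  have hg'up := eq_upper_of_pow hg'pow (hdet g' hg'L) (smul_infty_eq_self_iff.mp hg'inf)
  obtain ⟨t, ht⟩ : ∃ t : K, t = g' 0 1 := ⟨_, rfl⟩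
  rw [← ht] at hg'up
  have hαmem : mkG hU ∈ PL L := mem_PL.mpr ⟨l, hU, fun x => mkG_smul hU x⟩
  have hβmem : mkG hg'L ∈ PL L := mem_PL.mpr ⟨t, hg'up ▸ hg'L, fun x => by rw [mkG_smul, ← hg'up]⟩
  have hα1 : (⟨mkG hU, hαmem⟩ : ↥(PL L)) ≠ 1 := by
    intro h1
    have h3 : mkG hU = (1 : ↥(Gp L)) := congrArg Subtype.val h1
    have := (eq_one_iff _).mp h3 ((0 : K) : OnePoint K)
    rw [mkG_smul, upper_smul_coe, coe_eq_coe, zero_add] at this
    exact hl this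
  have htop := zpowers_eq_top_of_prime_card hcard hα1
  have hβ : (⟨mkG hg'L, hβmem⟩ : ↥(PL L)) ∈ Subgroup.zpowers (⟨mkG hU, hαmem⟩ : ↥(PL L)) := by
    rw [htop]; exact Subgroup.mem_top _
  obtain ⟨n, hn⟩ := Subgroup.mem_zpowers_iff.mp hβ
  have hn' : (mkG hU) ^ n = mkG hg'L := by
    have := congrArg Subtype.val hn
    rwa [Subgroup.coe_zpow] at this
  rw [mkG_zpow] at hn'
  have h0 := congrArg (fun γ : ↥(Gp L) => γ • ((0 : K) : OnePoint K)) hn'
  simp only [mkG_smul] at h0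
  rw [← AddChar.map_zsmul_eq_zpow, hg'up, upper_smul_coe, upper_smul_coe, coe_eq_coe, zero_add,
    zero_add] at h0
  refine ⟨h, hhL, n, ?_⟩
  rw [← AddChar.map_zsmul_eq_zpow, h0, ← hg'up, hg']
  group

end Cfsg.Agent.Lib.Helper35.Qd
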