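import Mathlib
import Cfsg.Prelude.Def_LocalEven
import Cfsg.Agent.Lib.Helper88.Involves

set_option autoImplicit false

/-! From a section `SL(2,3)`: a `2`-subgroup normalized, but not centralized, by a `3`-element. -/

namespace Cfsg.Agent.Lib.Helper35.Qd

open Matrix Cfsg
open scoped MatrixGroups

universe u

set_option maxRecDepth 100000 in
theorem sl23_closed : ∀ g h : SL(2, ZMod 3), g ^ 4 = 1 → h ^ 4 = 1 → (g * h) ^ 4 = 1 := by decide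

set_option maxRecDepth 100000 in
theorem sl23_cent : ∀ g q : SL(2, ZMod 3), q ^ 4 = 1 → q ^ 2 ≠ 1 → g * q * g⁻¹ = q → g ^ 4 = 1 := by
  decide

set_option maxRecDepth 100000 in
theorem sl23_cube : ∀ g : SL(2, ZMod 3), (g ^ 3) ^ 4 = 1 := by decide

set_option maxRecDepth 100000 in
theorem sl23_ex : ∃ q y : SL(2, ZMod 3), q ^ 4 = 1 ∧ q ^ 2 ≠ 1 ∧ y ^ 4 ≠ 1 := by decide

/-- the normal Sylow `2`-subgroup of `SL(2,3)` -/
def n2 : Subgroup SL(2, ZMod 3) where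
  carrier := {g | g ^ 4 = 1}
  mul_mem' := fun {g h} hg hh => sl23_closed g h hg hh
  one_mem' := one_pow 4
  inv_mem' := fun {g} hg => by
    show (g⁻¹) ^ 4 = 1
    rw [inv_pow, hg, inv_one]

theorem mem_n2 (g : SL(2, ZMod 3)) : g ∈ n2 ↔ g ^ 4 = 1 := Iff.rfl

instance n2_normal : n2.Normal := by
  constructor
  intro g hg h
  rw [mem_n2] at hg ⊢
  rw [conj_pow, hg, mul_one, mul_inv_cancel]

theorem exists_two_three_of_involves {Y : Type u} [Group Y] [Finite Y]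
    (h : Involves SL(2, ZMod 3) Y) :
    ∃ (T : Subgroup Y) (x q : Y), IsPGroup 2 T ∧ x ∈ Subgroup.normalizer (T : Set Y) ∧
      (∃ k : ℕ, x ^ (3 ^ k) = 1) ∧ q ∈ T ∧ x * q * x⁻¹ ≠ q := by
  classical
  have : Fact (Nat.Prime 2) := ⟨Nat.prime_two⟩
  obtain ⟨K, _, i, f, hi, hf⟩ := Cfsg.Agent.Lib.Helper88.spans_of_involves h
  have : Finite K := Finite.of_injective i hi
  obtain ⟨Nt, hNt⟩ : ∃ Nt : Subgroup K, Nt = n2.comap f := ⟨_, rfl⟩
  have hNtn : Nt.Normal := by rw [hNt]; infer_instance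
  obtain ⟨q₀, y₀, hq4, hq2, hy4⟩ := sl23_ex
  obtain ⟨q', hq'⟩ := hf q₀
  obtain ⟨e, m, hm, hord⟩ := Nat.exists_eq_two_pow_mul_odd (orderOf_pos q').ne'
  obtain ⟨qt, hqt⟩ : ∃ qt : K, qt = q' ^ m := ⟨_, rfl⟩
  have hqtpow : qt ^ (2 ^ e) = 1 := by
    rw [hqt, ← pow_mul, mul_comm, ← hord, pow_orderOf_eq_one]
  have hfqt : f qt = q₀ ^ m := by rw [hqt, map_pow, hq']
  have hfqt4 : (f qt) ^ 4 = 1 := by rw [hfqt, ← pow_mul, mul_comm, pow_mul, hq4, one_pow]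
  have hfqt2 : (f qt) ^ 2 ≠ 1 := by
    rw [hfqt, ← pow_mul, mul_comm, pow_mul]
    obtain ⟨k, rfl⟩ := hm
    rw [pow_succ, pow_mul]
    have : (q₀ ^ 2) ^ 2 = 1 := by rw [← pow_mul]; exact hq4
    rw [this, one_pow, one_mul]
    exact hq2
  have hqtN : qt ∈ Nt := by rw [hNt, Subgroup.mem_comap, mem_n2]; exact hfqt4
  have hP₁ : IsPGroup 2 ↥(Subgroup.zpowers (⟨qt, hqtN⟩ : ↥Nt)) := by
    rintro ⟨g, hg⟩
    obtain ⟨k, rfl⟩ := Subgroup.mem_zpowers_iff.mp hg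
    refine ⟨e, ?_⟩
    apply Subtype.ext
    simp only [Subgroup.coe_pow, Subgroup.coe_one]
    rw [← zpow_natCast, ← _root_.zpow_mul, mul_comm, _root_.zpow_mul, zpow_natCast]
    have : (⟨qt, hqtN⟩ : ↥Nt) ^ (2 ^ e) = 1 := Subtype.ext (by
      rw [Subgroup.coe_pow]; exact hqtpow)
    rw [this, _root_.one_zpow]
  obtain ⟨T, hT⟩ := hP₁.exists_le_sylow
  have hqtT : (⟨qt, hqtN⟩ : ↥Nt) ∈ T := hT (Subgroup.mem_zpowers _)
  obtain ⟨T', hT'⟩ : ∃ T' : Subgroup K, T' = (T : Subgroup ↥Nt).map Nt.subtype := ⟨_, rfl⟩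
  have hqtT' : qt ∈ T' := by rw [hT']; exact ⟨⟨qt, hqtN⟩, hqtT, rfl⟩
  have hT'2 : IsPGroup 2 ↥T' := by rw [hT']; exact T.2.map _
  have hfrat : Subgroup.normalizer (T' : Set K) ⊔ Nt = ⊤ := by
    rw [hT']
    exact Sylow.normalizer_sup_eq_top T
  obtain ⟨yt, hyt⟩ := hf y₀
  have hytm : yt ∈ Subgroup.normalizer (T' : Set K) ⊔ Nt := by rw [hfrat]; exact Subgroup.mem_top _
  obtain ⟨n, hn, z, hz, hnz⟩ := Subgroup.mem_sup_of_normal_right.mp hytm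
  have hfz : f z ∈ n2 := by rw [hNt] at hz; exact hz
  have hfn : f n ∉ n2 := by
    intro hfn
    apply hy4
    rw [← mem_n2, ← hyt, ← hnz, map_mul]
    exact n2.mul_mem hfn hfz
  obtain ⟨a, m', hm', hordn⟩ := Nat.exists_eq_pow_mul_and_not_dvd (orderOf_pos n).ne' 3 (by norm_num)
  obtain ⟨x, hx⟩ : ∃ x : K, x = n ^ m' := ⟨_, rfl⟩
  have hxpow : x ^ (3 ^ a) = 1 := by
    rw [hx, ← pow_mul, mul_comm, ← hordn, pow_orderOf_eq_one]
  have hxN : x ∈ Subgroup.normalizer (T' : Set K) := by rw [hx]; exact Subgroup.pow_mem _ hn _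
  have hfx : f x ∉ n2 := by
    intro hfx
    apply hfn
    rw [hx, map_pow] at hfx
    have h3 : (f n) ^ 3 ∈ n2 := sl23_cube (f n)
    have hmod : m' % 3 = 1 ∨ m' % 3 = 2 := by omega
    rcases hmod with h1 | h1
    · obtain ⟨k, hk⟩ : ∃ k, m' = 3 * k + 1 := ⟨m' / 3, by omega⟩
      have e0 : (f n) ^ (3 * k + 1) = ((f n) ^ 3) ^ k * f n := by
        rw [pow_add, pow_mul, pow_one]
      have e2 : f n = (((f n) ^ 3) ^ k)⁻¹ * (f n) ^ m' := by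
        rw [hk, e0]
        group
      rw [e2]
      exact n2.mul_mem (n2.inv_mem (n2.pow_mem h3 _)) hfx
    · obtain ⟨k, hk⟩ : ∃ k, m' = 3 * k + 2 := ⟨m' / 3, by omega⟩
      have e0 : (f n) ^ (3 * k + 2) = ((f n) ^ 3) ^ k * (f n) ^ 2 := by
        rw [pow_add, pow_mul]
      have e2 : (f n) ^ 2 = (((f n) ^ 3) ^ k)⁻¹ * (f n) ^ m' := by
        rw [hk, e0]
        group
      have h4 : (f n) ^ 2 ∈ n2 := by
        rw [e2]
        exact n2.mul_mem (n2.inv_mem (n2.pow_mem h3 _)) hfx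
      have e3 : f n = (f n) ^ 3 * ((f n) ^ 2)⁻¹ := by group
      rw [e3]
      exact n2.mul_mem h3 (n2.inv_mem h4)
  have hxq : x * qt * x⁻¹ ≠ qt := by
    intro hc
    apply hfx
    have h1 : f x * f qt * (f x)⁻¹ = f qt := by
      rw [← map_inv, ← map_mul, ← map_mul, hc]
    exact sl23_cent (f x) (f qt) hfqt4 hfqt2 h1
  refine ⟨T'.map i, i x, i qt, hT'2.map i, ?_, ⟨a, by rw [← map_pow, hxpow, map_one]⟩,
    ⟨qt, hqtT', rfl⟩, ?_⟩
  · exact Subgroup.le_normalizer_map i ⟨x, hxN, rfl⟩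
  · intro hc
    apply hxq
    apply hi
    rw [map_mul, map_mul, map_inv]
    exact hc

end Cfsg.Agent.Lib.Helper35.Qd
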