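import Mathlib
import Cfsg.Agent.Lib.Helper11.Dickson.MainE
import Cfsg.Agent.Lib.Helper11.Dickson.InvThree
import Cfsg.Agent.Lib.Helper35.Qd.EigenB
import Cfsg.Agent.Lib.Helper35.Qd.SL23

set_option autoImplicit false
set_option linter.unusedSectionVars false

/-! The pair of root elements with an eigenvector, characteristic `3`, exceptional case of the
fixed point count. -/

namespace Cfsg.Agent.Lib.Helper35.Qd

open Matrix Cfsg Cfsg.Agent.Lib.Helper11.Dickson Matrix.GeneralLinearGroup OnePoint MulAction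
open scoped MatrixGroups

universe u v

variable {K : Type v} [Field K] [DecidableEq K]

theorem pair_of_card_three {H : Type u} [Group H] [Finite H] [CharP K 3]
    (φ : H →* Matrix (Fin 2) (Fin 2) K) (hdet : ∀ g, (φ g).det = 1) (a b : H) (l : K) (hl : l ≠ 0)
    (hφa : φ a = !![1, l; 0, 1]) (hφb : φ b = !![1, 0; 1, 1])
    (φ' : H →* GL (Fin 2) K) (hφ' : ∀ g, (φ' g).val = φ g)
    (h3 : Nat.card ↥(PL φ'.range) = 3)
    (Q : H → Prop) (hQc : ∀ g x, Q x → Q (g * x * g⁻¹)) (hQi : ∀ x, Q x → Q x⁻¹)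
    (hQp : ∀ x (n : ℕ), Q x → Q (x ^ n)) (hQa : Q a) :
    ∃ c b' : H, Q c ∧ Q b' ∧ ∃ s : Fin 2 → K, s ≠ 0 ∧ (φ c - 1) *ᵥ ((φ b' - 1) *ᵥ s) = s := by
  have : Fact (Nat.Prime 3) := ⟨Nat.prime_three⟩
  have h2 : (2 : K) ≠ 0 := by
    intro h
    have h3 : ((2 : ℕ) : K) = 0 := by exact_mod_cast h
    rw [CharP.cast_eq_zero_iff K 3] at h3
    omega
  have h3K : (3 : K) = 0 := by exact_mod_cast CharP.cast_eq_zero K 3
  obtain ⟨L, hL⟩ : ∃ L : Subgroup (GL (Fin 2) K), L = φ'.range := ⟨_, rfl⟩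
  rw [← hL] at h3
  have hfin : Finite ↥L := by
    rw [hL]
    exact Finite.of_surjective φ'.rangeRestrict φ'.rangeRestrict_surjective
  have hmemL : ∀ g, φ' g ∈ L := fun g => by rw [hL]; exact ⟨g, rfl⟩
  have hdet' : ∀ g ∈ L, g.val.det = 1 := by
    rw [hL]
    rintro _ ⟨h, rfl⟩
    rw [hφ']
    exact hdet h
  have hφ'a : φ' a = upperRightHom l := by
    apply Units.ext
    rw [hφ', hφa]
    ext i j
    fin_cases i <;> fin_cases j <;> simp [upperRightHom]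
  have hφ'b : φ' b = tL 1 := by
    apply Units.ext
    rw [hφ', hφb]
    ext i j
    fin_cases i <;> fin_cases j <;> simp [tL]
  have hU : upperRightHom l ∈ L := hφ'a ▸ hmemL a
  have hL1 : tL (1 : K) ∈ L := hφ'b ▸ hmemL b
  obtain ⟨ψ, hψdef⟩ : ∃ ψ : ↥L →* Matrix (Fin 2) (Fin 2) K,
      ψ = (Units.coeHom _).comp L.subtype := ⟨_, rfl⟩
  have hψv : ∀ g : ↥L, ψ g = (g : GL (Fin 2) K).val := fun g => by rw [hψdef]; rfl
  have hψ : Function.Injective ψ := by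
    intro x y h
    rw [hψv, hψv] at h
    exact Subtype.ext (Units.ext h)
  have hdetψ : ∀ g, (ψ g).det = 1 := fun g => by rw [hψv]; exact hdet' g g.2
  have hinv := involves_three_of_injective ψ hψ hdetψ ⟨upperRightHom l, hU⟩ ⟨tL 1, hL1⟩ l hl
    (by
      rw [hψv]
      show (upperRightHom l : GL (Fin 2) K).val = _
      rw [← hφ'a, hφ', hφa])
    (by
      rw [hψv]
      show (tL (1 : K)).val = _
      rw [← hφ'b, hφ', hφb])
  obtain ⟨T, x, q, hT, hxN, ⟨k, hx3⟩, hqT, hxq⟩ := exists_two_three_of_involves hinv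
  have htr := trace_mul_conj ψ hψ hdetψ T hT x q hxN k hx3 hqT hxq
  have hx1 : x ≠ 1 := by
    rintro rfl
    apply hxq
    group
  have hxg1 : (x : GL (Fin 2) K) ≠ 1 := fun h => hx1 (Subtype.ext h)
  have hxpow : (x : GL (Fin 2) K) ^ (3 ^ k) = 1 := by
    have := congrArg Subtype.val hx3
    simpa using this
  obtain ⟨h, hhL, n, hn⟩ := conj_upper_of_card_prime 3 h2 hdet' hl hU h3 x.2 hxpow hxg1
  have hlift : ∀ g ∈ L, ∃ gt : H, φ' gt = g := by
    intro g hg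
    rw [hL] at hg
    exact hg
  obtain ⟨ht, rfl⟩ := hlift h hhL
  obtain ⟨qt, hqt⟩ := hlift q q.2
  obtain ⟨an, hQan, han⟩ : ∃ an : H, Q an ∧ φ' an = (upperRightHom l) ^ n := by
    rcases Int.eq_nat_or_neg n with ⟨m, rfl | rfl⟩
    · exact ⟨a ^ m, hQp a m hQa, by rw [map_pow, hφ'a, zpow_natCast]⟩
    · exact ⟨(a ^ m)⁻¹, hQi _ (hQp a m hQa), by
        rw [map_inv, map_pow, hφ'a, _root_.zpow_neg, zpow_natCast]⟩
  obtain ⟨xt, hxt⟩ : ∃ xt : H, xt = ht * an * ht⁻¹ := ⟨_, rfl⟩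
  have hφxt : φ' xt = (x : GL (Fin 2) K) := by
    rw [hxt, map_mul, map_mul, map_inv, han, ← hn]
  obtain ⟨yt, hyt⟩ : ∃ yt : H, yt = qt * xt * qt⁻¹ := ⟨_, rfl⟩
  have hφyt : φ' yt = ((q * x * q⁻¹ : ↥L) : GL (Fin 2) K) := by
    rw [hyt, map_mul, map_mul, map_inv, hqt, hφxt]
    simp
  have hQxt : Q xt := hxt ▸ hQc _ _ hQan
  have hQyt : Q yt := hyt ▸ hQc _ _ hQxt
  obtain ⟨X, hX⟩ : ∃ X, X = φ xt := ⟨_, rfl⟩
  obtain ⟨Y, hY⟩ : ∃ Y, Y = φ yt := ⟨_, rfl⟩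
  have hXψ : ψ x = X := by rw [hψv, ← hφxt, hφ', hX]
  have hYψ : ψ (q * x * q⁻¹) = Y := by rw [hψv, ← hφyt, hφ', hY]
  have htX : X.trace = 2 := by
    rw [← hXψ]
    apply trace_eq_two_of_pow_mat (p := 3) (k := k)
    rw [← map_pow, hx3, map_one]
  have htY : Y.trace = 2 := by
    rw [← hYψ]
    apply trace_eq_two_of_pow_mat (p := 3) (k := k)
    rw [← map_pow, conj_pow, hx3, mul_one, mul_inv_cancel, map_one]
  rw [hXψ, hYψ] at htr
  have hdX : X.det = 1 := by rw [hX]; exact hdet _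
  have hXinv : φ xt⁻¹ = (2 : K) • 1 - X :=
    map_inv_of_mul_eq_one φ xt _ (by rw [← hX]; exact mul_two_sub_of_trace_two htX hdX)
  refine ⟨xt⁻¹, yt, hQi _ hQxt, hQyt, ?_⟩
  rw [hXinv, ← hY]
  obtain ⟨M, hM⟩ : ∃ M, M = ((2 : K) • 1 - X - 1) * (Y - 1) := ⟨_, rfl⟩
  have hMtr : M.trace = 1 := by
    have e : M = Y - X * Y + X - 1 := by
      rw [hM, two_smul]
      noncomm_ring
    rw [e, Matrix.trace_sub, Matrix.trace_add, Matrix.trace_sub, htr, htX, htY, Matrix.trace_one]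
    simp
    linear_combination h3K
  have hMdet : M.det = 0 := by
    have h1 : ((2 : K) • 1 - X - 1).det = 0 := by
      rw [Matrix.trace_fin_two] at htX
      rw [Matrix.det_fin_two] at hdX
      rw [Matrix.det_fin_two]
      simp
      linear_combination hdX - htX
    rw [hM, Matrix.det_mul, h1, zero_mul]
  have hMM : M * M = M := by
    rw [ch2 M, hMtr, hMdet]
    simp
  have hM0 : M ≠ 0 := by
    intro h
    rw [h, Matrix.trace_zero] at hMtr
    exact zero_ne_one hMtr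
  obtain ⟨s₀, hs₀⟩ : ∃ s₀ : Fin 2 → K, M *ᵥ s₀ ≠ 0 := by
    by_contra hcon
    push Not at hcon
    apply hM0
    rw [Matrix.ext_iff_mulVec]
    intro s
    rw [hcon s, Matrix.zero_mulVec]
  refine ⟨M *ᵥ s₀, hs₀, ?_⟩
  rw [Matrix.mulVec_mulVec, Matrix.mulVec_mulVec, ← hM, hMM]

end Cfsg.Agent.Lib.Helper35.Qd
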