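import Mathlib
import Cfsg.Agent.Lib.Helper11.Dickson.MainE
import Cfsg.Agent.Lib.Helper35.Qd.EigenC

set_option autoImplicit false
set_option linter.unusedSectionVars false

/-! The pair of root elements with an eigenvector, for a two-dimensional representation generated
by two transvections, odd characteristic. -/

namespace Cfsg.Agent.Lib.Helper35.Qd

open Matrix Cfsg Cfsg.Agent.Lib.Helper11.Dickson Matrix.GeneralLinearGroup OnePoint MulAction
open scoped MatrixGroups

universe u v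

theorem exists_pair_of_rep2 {H : Type u} [Group H] [Finite H] {K : Type v} [Field K]
    [IsAlgClosed K] (p : ℕ) [Fact p.Prime] [CharP K p] (hp2 : p ≠ 2)
    (φ : H →* Matrix (Fin 2) (Fin 2) K) (hdet : ∀ g, (φ g).det = 1) (a b : H) (l : K)
    (hl : l ≠ 0) (hφa : φ a = !![1, l; 0, 1]) (hφb : φ b = !![1, 0; 1, 1])
    (Q : H → Prop) (hQc : ∀ g x, Q x → Q (g * x * g⁻¹)) (hQi : ∀ x, Q x → Q x⁻¹)
    (hQp : ∀ x (n : ℕ), Q x → Q (x ^ n)) (hQa : Q a) (hQb : Q b) :
    ∃ c b' : H, Q c ∧ Q b' ∧ ∃ s : Fin 2 → K, s ≠ 0 ∧ (φ c - 1) *ᵥ ((φ b' - 1) *ᵥ s) = s := by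
  classical
  obtain ⟨φ', hφ'def⟩ : ∃ φ' : H →* GL (Fin 2) K, φ' = φ.toHomUnits := ⟨_, rfl⟩
  have hφ' : ∀ g, (φ' g).val = φ g := fun g => by rw [hφ'def]; rfl
  have h2 : (2 : K) ≠ 0 := by
    intro h
    have h3 : ((2 : ℕ) : K) = 0 := by exact_mod_cast h
    rw [CharP.cast_eq_zero_iff K p] at h3
    have := (Nat.prime_dvd_prime_iff_eq Fact.out Nat.prime_two).mp h3
    exact hp2 this
  have : NeZero (2 : K) := ⟨h2⟩
  obtain ⟨L, hL⟩ : ∃ L : Subgroup (GL (Fin 2) K), L = φ'.range := ⟨_, rfl⟩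
  have hfin : Finite ↥L := by
    rw [hL]
    exact Finite.of_surjective φ'.rangeRestrict φ'.rangeRestrict_surjective
  have hmemL : ∀ g, φ' g ∈ L := fun g => by rw [hL]; exact ⟨g, rfl⟩
  have hlift : ∀ g ∈ L, ∃ gt : H, φ' gt = g := by
    intro g hg
    rw [hL] at hg
    exact hg
  have hdet' : ∀ g ∈ L, g.val.det = 1 := by
    intro g hg
    obtain ⟨h, rfl⟩ := hlift g hg
    rw [hφ']
    exact hdet h
  have hφ'a : φ' a = upperRightHom l := by
    apply Units.ext
    rw [hφ', hφa]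
    ext i j
    fin_cases i <;> fin_cases j <;> simp [upperRightHom]
  have hφ'b : φ' b = tL 1 := by
    apply Units.ext
    rw [hφ', hφb]
    ext i j
    fin_cases i <;> fin_cases j <;> simp [tL]
  have hU : upperRightHom l ∈ L := hφ'a ▸ hmemL a
  have hL1 : tL (1 : K) ∈ L := hφ'b ▸ hmemL b
  have : Finite ↥(Gp L) := Gp_finite
  have hF := fixHyp p hp2 hdet' hl hU hL1
  have hPp : IsPGroup p ↥(PL L) := by
    intro γ
    refine ⟨1, ?_⟩
    obtain ⟨t, -, ht⟩ := mem_PL.mp γ.2
    apply Subtype.ext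
    rw [Subgroup.coe_pow, Subgroup.coe_one, pow_one, eq_one_iff]
    have hpow : ∀ (n : ℕ) (x : OnePoint K),
        ((γ : ↥(Gp L)) ^ n) • x = (upperRightHom t) ^ n • x := by
      intro n
      induction n with
      | zero => intro x; simp
      | succ n ih =>
        intro x
        rw [pow_succ, pow_succ, mul_smul, mul_smul, ht, ih]
    intro x
    rw [hpow, upper_pow_p, one_smul]
  rcases hF.card_punct_eq with h3 | hreg
  · obtain ⟨k, hk⟩ := IsPGroup.iff_card.mp hPp
    have hp3 : p = 3 := by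
      rw [hk] at h3
      have h3' : p ∣ 3 := by
        rw [← h3]
        apply dvd_pow_self
        rintro rfl
        rw [pow_zero] at h3
        omega
      exact (Nat.prime_dvd_prime_iff_eq Fact.out Nat.prime_three).mp h3'
    subst hp3
    subst hL
    exact pair_of_card_three φ hdet a b l hl hφa hφb φ' hφ' h3 Q hQc hQi hQp hQa
  · have h0 : ((0 : K) : OnePoint K) ∈ orbit ↥(Gp L) (∞ : OnePoint K) := by
      have hγ1 : mkG hL1 ≠ (1 : ↥(Gp L)) := by
        intro h
        have := (eq_one_iff _).mp h (∞ : OnePoint K)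
        rw [mkG_smul, tL_one_smul_infty] at this
        exact coe_ne_infty _ this
      apply hF.parOrb (mkG hL1) hγ1
      · rw [fixedBy_eq (g := tL 1) (fun x => mkG_smul hL1 x)]
        exact ncard_fixedBy_of_isParabolic (tL_isParabolic one_ne_zero)
      · rw [mkG_smul, tL_smul_zero]
    have h1 : ((1 : K) : OnePoint K) ∈ orbit ↥(Gp L) (∞ : OnePoint K) :=
      ⟨mkG hL1, by
        show mkG hL1 • (∞ : OnePoint K) = _
        rw [mkG_smul, tL_one_smul_infty]⟩
    obtain ⟨γ, hγ, hγ01⟩ := hF.transitive_of_card hreg h0 (coe_ne_infty _) h1 (coe_ne_infty _)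
    obtain ⟨t, htL, ht⟩ := mem_PL.mp hγ
    rw [ht, upper_smul_coe, coe_eq_coe, zero_add] at hγ01
    rw [hγ01] at htL
    obtain ⟨c₀, hc₀⟩ := hlift _ htL
    have hφc : φ c₀ = !![1, 1; 0, 1] := by
      rw [← hφ', hc₀]
      ext i j
      fin_cases i <;> fin_cases j <;> simp [upperRightHom]
    exact pair_of_upper_one φ b c₀ hφb hφc Q hQc hQi hQb

end Cfsg.Agent.Lib.Helper35.Qd
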