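import Mathlib
import Cfsg.Agent.Lib.Helper35.GenCore

set_option autoImplicit false

/-! The two-dimensional representation attached to eigen-data, with the intertwining property
exposed. -/

namespace Cfsg.Agent.Lib.Helper35.Qd

open Module Matrix Cfsg.Agent.Lib.Helper35.QuadAlg Cfsg.Agent.Lib.Helper35.QuadCore
  Cfsg.Agent.Lib.Helper35.Quad2 Cfsg.Agent.Lib.Helper35.OddGL2 Cfsg.Agent.Lib.Helper35.GenQuad

universe u v w

variable {K : Type v} [Field K] {V : Type w} [AddCommGroup V] [Module K V]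

/-- the two-dimensional representation attached to eigen-data, with `Rep` exposed -/
theorem exists_rep2_rep {H : Type u} [Group H] (ρ : H →* End K V) (a b : H)
    (hgen : Subgroup.closure {a, b} = ⊤) (A B : End K V) (hρa : ρ a = 1 + A)
    (hρb : ρ b = 1 + B) (hB : B * B = 0) (l : K) (u : V) (hl : l ≠ 0) (hu : u ≠ 0)
    (hAu : A u = 0) (hABu : A (B u) = l • u) :
    ∃ φ : H →* Matrix (Fin 2) (Fin 2) K, (∀ g, (φ g).det = 1) ∧ φ a = !![1, l; 0, 1] ∧
      φ b = !![1, 0; 1, 1] ∧ Function.Injective (iota (K := K) u (B u)) ∧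
      ∀ g, Rep (ρ g) u (B u) (φ g) := by
  classical
  obtain ⟨w, hw⟩ : ∃ w, w = B u := ⟨_, rfl⟩
  rw [← hw] at hABu ⊢
  have hBw : B w = 0 := by
    have := congrArg (fun f : End K V => f u) hB
    rw [hw]
    simpa using this
  have hinj := iota_injective (K := K) A u w l hl hu hAu hABu
  have hRa : Rep (ρ a) u w !![1, l; 0, 1] := by rw [hρa]; exact rep_a A u w l hAu hABu
  have hRb : Rep (ρ b) u w !![1, 0; 1, 1] := by rw [hρb]; exact rep_b B u w hw.symm hBw
  have hgood : ∀ g : H, ∃ M : Matrix (Fin 2) (Fin 2) K, Rep (ρ g) u w M ∧ M.det = 1 := by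
    intro g
    have hg : g ∈ Subgroup.closure {a, b} := by rw [hgen]; exact Subgroup.mem_top g
    induction hg using Subgroup.closure_induction with
    | mem g hg =>
      rcases hg with rfl | hg
      · exact ⟨_, hRa, by simp [Matrix.det_fin_two]⟩
      · rw [Set.mem_singleton_iff] at hg
        subst hg
        exact ⟨_, hRb, by simp [Matrix.det_fin_two]⟩
    | one => exact ⟨1, by rw [map_one]; exact Rep.one u w, Matrix.det_one⟩
    | mul g h _ _ ihg ihh =>
      obtain ⟨M, hM, hMd⟩ := ihg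
      obtain ⟨M', hM', hMd'⟩ := ihh
      exact ⟨M * M', by rw [map_mul]; exact hM.mul hM', by rw [Matrix.det_mul, hMd, hMd', one_mul]⟩
    | inv g _ ih =>
      obtain ⟨M, hM, hMd⟩ := ih
      have hMu : IsUnit M.det := by rw [hMd]; exact isUnit_one
      refine ⟨M⁻¹, ?_, by rw [Matrix.det_nonsing_inv, hMd]; simp⟩
      intro s
      have h1 : ρ g (ρ g⁻¹ (iota u w s)) = iota u w s := by
        rw [← Module.End.mul_apply, ← map_mul, mul_inv_cancel, map_one, Module.End.one_apply]
      have h2 : ρ g (iota u w (M⁻¹ *ᵥ s)) = iota u w s := by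
        rw [hM, Matrix.mulVec_mulVec, Matrix.mul_nonsing_inv M hMu, Matrix.one_mulVec]
      have h3 : ρ g⁻¹ (ρ g (ρ g⁻¹ (iota u w s))) = ρ g⁻¹ (ρ g (iota u w (M⁻¹ *ᵥ s))) := by
        rw [h1, h2]
      have h4 : ∀ v, ρ g⁻¹ (ρ g v) = v := fun v => by
        rw [← Module.End.mul_apply, ← map_mul, inv_mul_cancel, map_one, Module.End.one_apply]
      rw [h4, h4] at h3
      exact h3
  let φ₀ : H → Matrix (Fin 2) (Fin 2) K := fun g => Classical.choose (hgood g)
  have hφ₀ : ∀ g : H, Rep (ρ g) u w (φ₀ g) ∧ (φ₀ g).det = 1 := fun g =>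
    Classical.choose_spec (hgood g)
  let φ : H →* Matrix (Fin 2) (Fin 2) K :=
    { toFun := φ₀
      map_one' := by
        apply Rep.unique hinj (hφ₀ 1).1
        rw [map_one]; exact Rep.one u w
      map_mul' := by
        intro g h
        apply Rep.unique hinj (hφ₀ (g * h)).1
        rw [map_mul]
        exact (hφ₀ g).1.mul (hφ₀ h).1 }
  have hφ : ∀ g : H, Rep (ρ g) u w (φ g) ∧ (φ g).det = 1 := hφ₀
  exact ⟨φ, fun g => (hφ g).2, Rep.unique hinj (hφ a).1 hRa, Rep.unique hinj (hφ b).1 hRb, hinj,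
    fun g => (hφ g).1⟩

end Cfsg.Agent.Lib.Helper35.Qd
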