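import Mathlib
import Cfsg.Agent.Lib.Helper35.GenRep
import Cfsg.Agent.Lib.Helper35.Qd.RepExp
import Cfsg.Agent.Lib.Helper35.Qd.EigenD

set_option autoImplicit false
set_option linter.unusedSectionVars false

/-! Two quadratic generators acting on a finite `𝔽_p`-module, not unipotently: a pair of quadratic
elements `c`, `b'` and a nonzero vector `v` with `(c - 1)(b' - 1) v = v`. -/

namespace Cfsg.Agent.Lib.Helper35.Qd

open Module Matrix Cfsg Cfsg.Agent.Lib.Helper35.QuadAlg Cfsg.Agent.Lib.Helper35.QuadCore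
  Cfsg.Agent.Lib.Helper35.GenQuad

universe u v w

/-- powers of `1 + N` with `N² = 0`, in a ring -/
theorem one_add_pow_of_sq_ring {R : Type*} [Ring R] {N : R} (h : N * N = 0) (n : ℕ) :
    (1 + N) ^ n = 1 + n • N := by
  induction n with
  | zero => simp
  | succ n ih =>
    rw [pow_succ, ih, add_mul, mul_add, mul_add, one_mul, mul_one, smul_mul_assoc, h, smul_zero,
      add_zero, one_mul, succ_nsmul]
    abel

section quad

variable {R : Type*} [Ring R] {H : Type u} [Group H] (θ : H →* R)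

theorem quad_conj (g x : H) (hx : (θ x - 1) * (θ x - 1) = 0) :
    (θ (g * x * g⁻¹) - 1) * (θ (g * x * g⁻¹) - 1) = 0 := by
  have h1 : θ g⁻¹ * θ g = 1 := by rw [← map_mul, inv_mul_cancel, map_one]
  have h2 : θ g * θ g⁻¹ = 1 := by rw [← map_mul, mul_inv_cancel, map_one]
  have e : θ (g * x * g⁻¹) - 1 = θ g * (θ x - 1) * θ g⁻¹ := by
    rw [map_mul, map_mul, mul_sub, sub_mul, mul_one, h2]
  rw [e]
  calc θ g * (θ x - 1) * θ g⁻¹ * (θ g * (θ x - 1) * θ g⁻¹)
      = θ g * (θ x - 1) * (θ g⁻¹ * θ g) * (θ x - 1) * θ g⁻¹ := by noncomm_ring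
    _ = θ g * ((θ x - 1) * (θ x - 1)) * θ g⁻¹ := by rw [h1]; noncomm_ring
    _ = 0 := by rw [hx, mul_zero, zero_mul]

theorem quad_pow' (x : H) (n : ℕ) (hx : (θ x - 1) * (θ x - 1) = 0) :
    (θ (x ^ n) - 1) * (θ (x ^ n) - 1) = 0 := by
  have e : θ x = 1 + (θ x - 1) := by abel
  rw [map_pow, e, one_add_pow_of_sq_ring hx, add_sub_cancel_left, smul_mul_smul_comm, hx,
    smul_zero]

theorem quad_inv (x : H) (hx : (θ x - 1) * (θ x - 1) = 0) :
    (θ x⁻¹ - 1) * (θ x⁻¹ - 1) = 0 := by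
  have h1 : θ x⁻¹ * θ x = 1 := by rw [← map_mul, inv_mul_cancel, map_one]
  have h2 : θ x * θ x⁻¹ = 1 := by rw [← map_mul, mul_inv_cancel, map_one]
  have e : θ x⁻¹ - 1 = -(θ x⁻¹ * (θ x - 1)) := by
    rw [mul_sub, h1, mul_one]
    abel
  have e' : θ x⁻¹ - 1 = -((θ x - 1) * θ x⁻¹) := by
    rw [sub_mul, h2, one_mul]
    abel
  calc (θ x⁻¹ - 1) * (θ x⁻¹ - 1) = -(θ x⁻¹ * (θ x - 1)) * -((θ x - 1) * θ x⁻¹) := by
        rw [← e, ← e']
    _ = θ x⁻¹ * ((θ x - 1) * (θ x - 1)) * θ x⁻¹ := by noncomm_ring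
    _ = 0 := by rw [hx, mul_zero, zero_mul]

end quad

theorem exists_quad_pair {p : ℕ} [Fact p.Prime] (hp2 : p ≠ 2) {W : Type w} [AddCommGroup W]
    [Module (ZMod p) W] [Finite W] {H : Type u} [Group H] [Finite H]
    (θ : H →* Module.End (ZMod p) W) (a b : H) (hgen : Subgroup.closure {a, b} = ⊤)
    (ha : (θ a - 1) * (θ a - 1) = 0) (hb : (θ b - 1) * (θ b - 1) = 0)
    (hnu : ¬ ∃ k : ℕ, ∀ d : H, (θ d - 1) ^ k = 0) :
    ∃ (c b' : H) (v : W), (θ c - 1) * (θ c - 1) = 0 ∧ (θ b' - 1) * (θ b' - 1) = 0 ∧ v ≠ 0 ∧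
      (θ c - 1) ((θ b' - 1) v) = v := by
  classical
  let F := ZMod p
  let K := AlgebraicClosure F
  have : Module.Finite F W := Module.Finite.of_finite
  let ι := Module.Free.ChooseBasisIndex F W
  let bs : Basis ι F W := Module.Free.chooseBasis F W
  let e₁ : Module.End F W ≃ₐ[F] Matrix ι ι F := LinearMap.toMatrixAlgEquiv bs
  let e₂ : Matrix ι ι F →+* Matrix ι ι K := (algebraMap F K).mapMatrix
  let e₃ : Matrix ι ι K ≃ₐ[K] Module.End K (ι → K) := Matrix.toLinAlgEquiv'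
  let Ψ : Module.End F W →+* Module.End K (ι → K) :=
    (e₃.toRingEquiv.toRingHom).comp (e₂.comp e₁.toRingEquiv.toRingHom)
  have hΨ : Function.Injective Ψ := by
    have h2 : Function.Injective e₂ := by
      intro M M' h
      ext i j
      have := congrFun (congrFun h i) j
      simp only [e₂, RingHom.mapMatrix_apply, Matrix.map_apply] at this
      exact (algebraMap F K).injective this
    exact e₃.injective.comp (h2.comp e₁.injective)
  let ρ : H →* Module.End K (ι → K) := (Ψ : Module.End F W →* Module.End K (ι → K)).comp θ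
  have hchar : CharP K p := charP_of_injective_algebraMap (algebraMap F K).injective p
  have hρ : ∀ g, ρ g = Ψ (θ g) := fun g => rfl
  have ha' : (ρ a - 1) * (ρ a - 1) = 0 := by
    rw [hρ, ← map_one Ψ, ← map_sub, ← map_mul, ha, map_zero]
  have hb' : (ρ b - 1) * (ρ b - 1) = 0 := by
    rw [hρ, ← map_one Ψ, ← map_sub, ← map_mul, hb, map_zero]
  obtain ⟨A, hA⟩ : ∃ A, A = ρ a - 1 := ⟨_, rfl⟩
  obtain ⟨B, hB⟩ : ∃ B, B = ρ b - 1 := ⟨_, rfl⟩
  have hρa : ρ a = 1 + A := by rw [hA]; abel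
  have hρb : ρ b = 1 + B := by rw [hB]; abel
  rw [← hA] at ha'
  rw [← hB] at hb'
  by_cases hZ : QuadAlg.zEl A B ^ finrank K (ι → K) = 0
  · exfalso
    apply hnu
    obtain ⟨h1, h2⟩ := mul_pow_eq_zero_of_zEl A B ha' hb' _ hZ
    obtain ⟨k, hk⟩ := chain_eq_bot A B ha' hb' _ h1 h2
    refine ⟨k, fun d => ?_⟩
    apply hΨ
    rw [map_pow, map_sub, map_one, map_zero, ← hρ]
    exact sub_one_pow_eq_zero ρ a b hgen A B hρa hρb ha' hb' k hk d
  obtain ⟨l, u, hl, hu, hAu, hABu⟩ := exists_eigen_of_not_nilpotent A B ha' hZ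
  obtain ⟨φ, hdet, hφa, hφb, hinj, hRep⟩ :=
    exists_rep2_rep ρ a b hgen A B hρa hρb hb' l u hl hu hAu hABu
  obtain ⟨c, b', hQc, hQb', s, hs, hsc⟩ := exists_pair_of_rep2 p hp2 φ hdet a b l hl hφa hφb
    (fun x => (θ x - 1) * (θ x - 1) = 0) (fun g x hx => quad_conj θ g x hx)
    (fun x hx => quad_inv θ x hx) (fun x n hx => quad_pow' θ x n hx) ha hb
  obtain ⟨u', hu'⟩ : ∃ u', u' = iota (K := K) u (B u) s := ⟨_, rfl⟩
  have hu'0 : u' ≠ 0 := by
    intro h
    apply hs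
    apply hinj
    rw [← hu', h, map_zero]
  have hsub : ∀ (g : H) (s' : Fin 2 → K),
      (ρ g - 1) (iota (K := K) u (B u) s') = iota u (B u) ((φ g - 1) *ᵥ s') := by
    intro g s'
    rw [LinearMap.sub_apply, Module.End.one_apply, hRep g s', Matrix.sub_mulVec, Matrix.one_mulVec,
      map_sub]
  have heig : (ρ c - 1) ((ρ b' - 1) u') = u' := by
    rw [hu', hsub, hsub, hsc]
  obtain ⟨T, hT⟩ : ∃ T : Module.End F W, T = (θ c - 1) * (θ b' - 1) - 1 := ⟨_, rfl⟩
  have hΨT : Ψ T u' = 0 := by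
    rw [hT, map_sub, map_mul, map_sub, map_sub, map_one, ← hρ, ← hρ, LinearMap.sub_apply,
      Module.End.mul_apply, heig, Module.End.one_apply, sub_self]
  have hTni : ¬ Function.Injective T := by
    intro hTi
    have hTb : Function.Bijective T := ⟨hTi, Finite.surjective_of_injective hTi⟩
    have hTu : IsUnit T := (Module.End.isUnit_iff T).mpr hTb
    have hΨTu : IsUnit (Ψ T) := hTu.map Ψ
    have hΨTi := ((Module.End.isUnit_iff (Ψ T)).mp hΨTu).1
    apply hu'0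
    apply hΨTi
    rw [hΨT, map_zero]
  have hker : ∃ v : W, v ≠ 0 ∧ T v = 0 := by
    by_contra hcon
    push Not at hcon
    apply hTni
    rw [injective_iff_map_eq_zero]
    intro v hv
    by_contra hv0
    exact hcon v hv0 hv
  obtain ⟨v, hv0, hTv⟩ := hker
  refine ⟨c, b', v, hQc, hQb', hv0, ?_⟩
  rw [hT, LinearMap.sub_apply, Module.End.mul_apply, Module.End.one_apply, sub_eq_zero] at hTv
  exact hTv

end Cfsg.Agent.Lib.Helper35.Qd
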