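import Mathlib
import Cfsg.Agent.Lib.Helper35.GenRep
import Cfsg.Agent.Lib.Helper35.Qd.EigenMod

set_option autoImplicit false
set_option linter.unusedSectionVars false

/-! Two quadratic generators acting on an elementary abelian `p`-group, not as a `p`-group: the
configuration of `Qd(p)`. -/

namespace Cfsg.Agent.Lib.Helper35.Qd

open Module Cfsg Cfsg.Agent.Lib.Helper35.PStab Cfsg.Agent.Lib.Helper35.GenQuad

universe u w

theorem exists_qd_config {p : ℕ} [Fact p.Prime] (hp2 : p ≠ 2) {X : Type u} [Group X] [Finite X]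
    {V : Type w} [CommGroup V] [Finite V] (hVe : ∀ v : V, v ^ p = 1) (κ : X →* MulAut V)
    (a b : X) (hgen : Subgroup.closure {a, b} = ⊤)
    (ha : ∀ v : V, κ a (κ a v * v⁻¹) = κ a v * v⁻¹)
    (hb : ∀ v : V, κ b (κ b v * v⁻¹) = κ b v * v⁻¹)
    (hnp : ¬ ∃ j : ℕ, ∀ d : X, κ d ^ (p ^ j) = 1) :
    ∃ (c b' : X) (v w : V), v ≠ 1 ∧ κ b' v = v * w ∧ κ b' w = w ∧ κ c v = v ∧ κ c w = v * w := by
  have instMod : Module (ZMod p) (Additive V) := AddCommGroup.zmodModule (by
    intro x
    have := hVe (Additive.toMul x)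
    exact congrArg Additive.ofMul this)
  obtain ⟨θ, hθ⟩ : ∃ θ : X →* Module.End (ZMod p) (Additive V), θ = (autEnd p V).comp κ :=
    ⟨_, rfl⟩
  have e1 : ∀ (c : X) (w : Additive V),
      (θ c - 1) w = Additive.ofMul (κ c (Additive.toMul w) * (Additive.toMul w)⁻¹) := by
    intro c w
    rw [LinearMap.sub_apply, Module.End.one_apply, hθ]
    show autEnd p V (κ c) w - w = _
    rw [autEnd_apply, ofMul_mul, ofMul_inv, ofMul_toMul, sub_eq_add_neg]
  have hquad : ∀ c : X, (∀ v : V, κ c (κ c v * v⁻¹) = κ c v * v⁻¹) →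
      (θ c - 1) * (θ c - 1) = 0 := by
    intro c hc
    apply LinearMap.ext
    intro w
    rw [Module.End.mul_apply, e1, e1, LinearMap.zero_apply]
    simp only [toMul_ofMul]
    rw [hc, mul_inv_cancel]
    rfl
  have hnu : ¬ ∃ k : ℕ, ∀ d : X, (θ d - 1) ^ k = 0 := by
    rintro ⟨k, hk⟩
    apply hnp
    refine ⟨k, fun d => ?_⟩
    apply autEnd_injective p V
    rcases subsingleton_or_nontrivial (Additive V) with hs | hn
    · apply LinearMap.ext
      intro x
      exact Subsingleton.elim _ _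
    have hchar : CharP (Module.End (ZMod p) (Additive V)) p :=
      charP_of_injective_algebraMap
        (algebraMap (ZMod p) (Module.End (ZMod p) (Additive V))).injective p
    have hle : k ≤ p ^ k := (Nat.lt_pow_self (Fact.out : p.Prime).one_lt).le
    have h1 : (θ d - 1) ^ (p ^ k) = 0 := pow_eq_zero_of_le hle (hk d)
    rw [sub_pow_char_pow_of_commute p k (Commute.one_right _), one_pow, sub_eq_zero] at h1
    rw [map_pow, map_one]
    have : autEnd p V (κ d) = θ d := by rw [hθ]; rfl
    rw [this]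
    exact h1
  have : Finite (Additive V) := inferInstanceAs (Finite V)
  obtain ⟨c, b', vt, hc, hb', hv0, heig⟩ :=
    exists_quad_pair hp2 θ a b hgen (hquad a ha) (hquad b hb) hnu
  obtain ⟨v, hv⟩ : ∃ v : V, v = Additive.toMul vt := ⟨_, rfl⟩
  obtain ⟨w, hw⟩ : ∃ w : V, w = κ b' v * v⁻¹ := ⟨_, rfl⟩
  have h1 : (θ b' - 1) vt = Additive.ofMul w := by rw [e1, ← hv, hw]
  have h2 : κ c w * w⁻¹ = v := by
    rw [h1, e1, toMul_ofMul] at heig
    have := congrArg Additive.toMul heig
    rw [toMul_ofMul] at this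
    rw [this, hv]
  have h3 : κ b' w * w⁻¹ = 1 := by
    have := congrArg (fun f : Module.End (ZMod p) (Additive V) => f vt) hb'
    simp only [Module.End.mul_apply, LinearMap.zero_apply] at this
    rw [h1, e1, toMul_ofMul] at this
    have := congrArg Additive.toMul this
    rwa [toMul_ofMul] at this
  have h4 : κ c v * v⁻¹ = 1 := by
    have := congrArg (fun f : Module.End (ZMod p) (Additive V) => f (Additive.ofMul w)) hc
    simp only [Module.End.mul_apply, LinearMap.zero_apply] at this
    have h5 : (θ c - 1) (Additive.ofMul w) = Additive.ofMul v := by rw [e1, toMul_ofMul, h2]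
    rw [h5, e1, toMul_ofMul] at this
    have := congrArg Additive.toMul this
    rwa [toMul_ofMul] at this
  refine ⟨c, b', v, w, ?_, ?_, ?_, ?_, ?_⟩
  · intro h
    apply hv0
    have : vt = Additive.ofMul v := by rw [hv, ofMul_toMul]
    rw [this, h]
    rfl
  · rw [hw, mul_comm, inv_mul_cancel_right]
  · exact mul_inv_eq_one.mp h3
  · exact mul_inv_eq_one.mp h4
  · rw [← h2, inv_mul_cancel_right]

end Cfsg.Agent.Lib.Helper35.Qd
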