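import Mathlib
import Cfsg.Agent.Lib.Helper35.Qd.Aff

set_option autoImplicit false

/-! Coordinates on a subgroup `⟨v, w⟩ ≅ (ℤ/p)²` and matrices representing conjugation. -/

namespace Cfsg.Agent.Lib.Helper35.Qd

open Matrix Cfsg Cfsg.Agent.Lib.Helper11.Dickson
open scoped MatrixGroups

variable {p : ℕ} [Fact p.Prime] {X : Type*} [Group X]

/-- the element `v ^ s₀ * w ^ s₁` -/
def kap (v w : X) (s : Fin 2 → ZMod p) : X := v ^ (s 0).val * w ^ (s 1).val

theorem pow_val_add {x : X} (hx : x ^ p = 1) (a b : ZMod p) :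
    x ^ (a + b).val = x ^ a.val * x ^ b.val := by
  rw [ZMod.val_add, ← pow_add, ← pow_eq_pow_mod _ hx]

theorem pow_val_eq_one {x : X} (hx : x ^ p = 1) (hx1 : x ≠ 1) (a : ZMod p)
    (h : x ^ a.val = 1) : a = 0 := by
  by_contra ha
  have hpos : 0 < a.val := Nat.pos_of_ne_zero (fun h0 => ha ((ZMod.val_eq_zero a).mp h0))
  have hlt : a.val < p := ZMod.val_lt a
  have h1 : orderOf x ∣ a.val := orderOf_dvd_of_pow_eq_one h
  have h2 : orderOf x ∣ p := orderOf_dvd_of_pow_eq_one hx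
  rcases (Nat.dvd_prime (Fact.out : p.Prime)).mp h2 with h3 | h3
  · exact hx1 (orderOf_eq_one_iff.mp h3)
  · rw [h3] at h1
    have := Nat.le_of_dvd hpos h1
    omega

section
variable {v w : X} (hvp : v ^ p = 1) (hwp : w ^ p = 1) (hvw : Commute v w)
include hvp hwp hvw

theorem kap_add (s s' : Fin 2 → ZMod p) : kap v w (s + s') = kap v w s * kap v w s' := by
  unfold kap
  rw [Pi.add_apply, Pi.add_apply, pow_val_add hvp, pow_val_add hwp]
  have h1 : Commute (v ^ (s' 0).val) (w ^ (s 1).val) := hvw.pow_pow _ _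
  calc v ^ (s 0).val * v ^ (s' 0).val * (w ^ (s 1).val * w ^ (s' 1).val)
      = v ^ (s 0).val * (v ^ (s' 0).val * w ^ (s 1).val) * w ^ (s' 1).val := by group
    _ = v ^ (s 0).val * (w ^ (s 1).val * v ^ (s' 0).val) * w ^ (s' 1).val := by rw [h1.eq]
    _ = _ := by group

omit hvp hwp hvw in
theorem kap_zero : kap v w (0 : Fin 2 → ZMod p) = 1 := by
  unfold kap
  simp

theorem kap_neg (s : Fin 2 → ZMod p) : kap v w (-s) = (kap v w s)⁻¹ := by
  rw [eq_inv_iff_mul_eq_one, ← kap_add hvp hwp hvw, neg_add_cancel, kap_zero]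

theorem kap_sub (s s' : Fin 2 → ZMod p) : kap v w (s - s') = kap v w s * (kap v w s')⁻¹ := by
  rw [sub_eq_add_neg, kap_add hvp hwp hvw, kap_neg hvp hwp hvw]

theorem kap_pow_p (s : Fin 2 → ZMod p) : kap v w s ^ p = 1 := by
  unfold kap
  rw [(hvw.pow_pow _ _).mul_pow, ← pow_mul, ← pow_mul, mul_comm _ p, mul_comm _ p, pow_mul, pow_mul,
    hvp, hwp, one_pow, one_pow, one_mul]

end

/-- conjugation by `m` is represented by the matrix `A` in the coordinates `kap` -/
def RepK (v w : X) (m : X) (A : SL(2, ZMod p)) : Prop :=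
  ∀ s : Fin 2 → ZMod p, m * kap v w s * m⁻¹ = kap v w (A.1 *ᵥ s)

theorem RepK.one (v w : X) : RepK (p := p) v w 1 1 := by
  intro s
  simp

theorem RepK.mul {v w m m' : X} {A A' : SL(2, ZMod p)} (h : RepK v w m A)
    (h' : RepK v w m' A') : RepK v w (m * m') (A * A') := by
  intro s
  have : m * m' * kap v w s * (m * m')⁻¹ = m * (m' * kap v w s * m'⁻¹) * m⁻¹ := by group
  rw [this, h' s, h, Matrix.mulVec_mulVec, Matrix.SpecialLinearGroup.coe_mul]

theorem RepK.inv {v w m : X} {A : SL(2, ZMod p)} (h : RepK v w m A) : RepK v w m⁻¹ A⁻¹ := by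
  intro s
  have h1 := h (A⁻¹.1 *ᵥ s)
  rw [Matrix.mulVec_mulVec, ← Matrix.SpecialLinearGroup.coe_mul, mul_inv_cancel] at h1
  simp only [Matrix.SpecialLinearGroup.coe_one, Matrix.one_mulVec] at h1
  rw [← h1]
  group

section
variable {b c v w : X} (hv1 : v ≠ 1) (hvp : v ^ p = 1) (hwp : w ^ p = 1) (hvw : Commute v w)
  (hbv : b * v * b⁻¹ = v * w) (hbw : b * w * b⁻¹ = w) (hcv : c * v * c⁻¹ = v)
  (hcw : c * w * c⁻¹ = v * w)

include hwp hvw hbv hbw in
theorem repK_b : RepK v w b (sL (F := ZMod p) 1) := by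
  intro s
  have e : (sL (F := ZMod p) 1).1 *ᵥ s = ![s 0, s 0 + s 1] := by
    funext i
    fin_cases i <;> simp [sL, Matrix.mulVec, dotProduct, Fin.sum_univ_two]
  rw [e]
  unfold kap
  have h1 : b * (v ^ (s 0).val * w ^ (s 1).val) * b⁻¹ =
      (b * v * b⁻¹) ^ (s 0).val * (b * w * b⁻¹) ^ (s 1).val := by
    rw [conj_pow, conj_pow]; group
  rw [h1, hbv, hbw, hvw.mul_pow]
  simp only [Matrix.cons_val_zero, Matrix.cons_val_one]
  rw [pow_val_add hwp, mul_assoc]

include hvp hvw hcv hcw in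
theorem repK_c : RepK v w c (sU (F := ZMod p) 1) := by
  intro s
  have e : (sU (F := ZMod p) 1).1 *ᵥ s = ![s 0 + s 1, s 1] := by
    funext i
    fin_cases i <;> simp [sU, Matrix.mulVec, dotProduct, Fin.sum_univ_two]
  rw [e]
  unfold kap
  have h1 : c * (v ^ (s 0).val * w ^ (s 1).val) * c⁻¹ =
      (c * v * c⁻¹) ^ (s 0).val * (c * w * c⁻¹) ^ (s 1).val := by
    rw [conj_pow, conj_pow]; group
  rw [h1, hcv, hcw, hvw.mul_pow]
  simp only [Matrix.cons_val_zero, Matrix.cons_val_one]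
  rw [pow_val_add hvp, mul_assoc]

include hv1 hvp hwp hvw hcv hcw in
theorem kap_eq_one {s : Fin 2 → ZMod p} (h : kap v w s = 1) : s = 0 := by
  have h1 := repK_c hvp hvw hcv hcw s
  rw [h, mul_one, mul_inv_cancel] at h1
  have e : (sU (F := ZMod p) 1).1 *ᵥ s - s = ![s 1, 0] := by
    funext i
    fin_cases i <;> simp [sU, Matrix.mulVec, dotProduct, Fin.sum_univ_two]
  have h2 : kap v w ((sU (F := ZMod p) 1).1 *ᵥ s - s) = 1 := by
    rw [kap_sub hvp hwp hvw, ← h1, h, inv_one, mul_one]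
  rw [e] at h2
  have h3 : v ^ (s 1).val = 1 := by
    unfold kap at h2
    simpa using h2
  have hs1 : s 1 = 0 := pow_val_eq_one hvp hv1 _ h3
  have h4 : v ^ (s 0).val = 1 := by
    unfold kap at h
    rw [hs1] at h
    simpa using h
  have hs0 : s 0 = 0 := pow_val_eq_one hvp hv1 _ h4
  funext i
  fin_cases i
  · exact hs0
  · exact hs1

include hv1 hvp hwp hvw hcv hcw in
theorem kap_injective : Function.Injective (kap (p := p) v w) := by
  intro s s' h
  have h1 : kap v w (s - s') = 1 := by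
    rw [kap_sub hvp hwp hvw, h, mul_inv_cancel]
  have := kap_eq_one hv1 hvp hwp hvw hcv hcw h1
  exact sub_eq_zero.mp this

include hv1 hvp hwp hvw hcv hcw in
theorem RepK.unique {m : X} {A A' : SL(2, ZMod p)} (h : RepK v w m A) (h' : RepK v w m A') :
    A = A' := by
  apply Subtype.ext
  rw [Matrix.ext_iff_mulVec]
  intro s
  apply kap_injective hv1 hvp hwp hvw hcv hcw
  rw [← h s, ← h' s]

end

end Cfsg.Agent.Lib.Helper35.Qd
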