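import Mathlib
import Cfsg.Agent.Lib.Helper35.Qd.Kap
import Cfsg.Agent.Lib.Helper88.Involves
import Cfsg.Prelude.Def_LocalEven

set_option autoImplicit false

/-! From two elements acting on `⟨v, w⟩ ≅ (ℤ/p)²` as the standard transvections to a section
isomorphic to `Qd(p)`. -/

namespace Cfsg.Agent.Lib.Helper35.Qd

open Matrix Cfsg Cfsg.Agent.Lib.Helper11.Dickson
open scoped MatrixGroups

universe u

variable {p : ℕ} [Fact p.Prime]

/-- the action of `SL₂(p)` on the (multiplicative) plane -/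
def actSL (A : SL(2, ZMod p)) : MulAut (Multiplicative (Fin 2 → ZMod p)) where
  toFun s := Multiplicative.ofAdd (A.1 *ᵥ Multiplicative.toAdd s)
  invFun s := Multiplicative.ofAdd (A⁻¹.1 *ᵥ Multiplicative.toAdd s)
  left_inv s := by
    simp only [toAdd_ofAdd]
    rw [Matrix.mulVec_mulVec, ← Matrix.SpecialLinearGroup.coe_mul, inv_mul_cancel]
    simp
  right_inv s := by
    simp only [toAdd_ofAdd]
    rw [Matrix.mulVec_mulVec, ← Matrix.SpecialLinearGroup.coe_mul, mul_inv_cancel]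
    simp
  map_mul' s s' := by
    simp only [toAdd_mul, Matrix.mulVec_add, ofAdd_add]

/-- the action as a homomorphism -/
def actHom : SL(2, ZMod p) →* MulAut (Multiplicative (Fin 2 → ZMod p)) where
  toFun := actSL
  map_one' := by
    apply MulEquiv.ext
    intro s
    show Multiplicative.ofAdd ((1 : SL(2, ZMod p)).1 *ᵥ Multiplicative.toAdd s) = s
    simp
  map_mul' A B := by
    apply MulEquiv.ext
    intro s
    show Multiplicative.ofAdd ((A * B).1 *ᵥ Multiplicative.toAdd s) =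
      Multiplicative.ofAdd (A.1 *ᵥ (B.1 *ᵥ Multiplicative.toAdd s))
    rw [Matrix.SpecialLinearGroup.coe_mul, Matrix.mulVec_mulVec]

theorem actHom_apply (A : SL(2, ZMod p)) (s : Multiplicative (Fin 2 → ZMod p)) :
    actHom A s = Multiplicative.ofAdd (A.1 *ᵥ Multiplicative.toAdd s) := rfl

/-- powers of an element acting as `-1` -/
theorem mulVec_pow_of_neg {A : SL(2, ZMod p)} (hA : ∀ s : Fin 2 → ZMod p, A.1 *ᵥ s = -s)
    (k : ℕ) (s : Fin 2 → ZMod p) : (A ^ k).1 *ᵥ s = (-1 : ZMod p) ^ k • s := by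
  induction k with
  | zero => simp
  | succ k ih =>
    rw [pow_succ, Matrix.SpecialLinearGroup.coe_mul, ← Matrix.mulVec_mulVec, hA, Matrix.mulVec_neg,
      ih, pow_succ]
    simp

/-- an element acting as `-1` is central -/
theorem mem_center_of_neg {A : SL(2, ZMod p)} (hA : ∀ s : Fin 2 → ZMod p, A.1 *ᵥ s = -s) :
    A ∈ Subgroup.center SL(2, ZMod p) := by
  rw [Subgroup.mem_center_iff]
  intro g
  apply Subtype.ext
  rw [Matrix.SpecialLinearGroup.coe_mul, Matrix.SpecialLinearGroup.coe_mul, Matrix.ext_iff_mulVec]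
  intro s
  rw [← Matrix.mulVec_mulVec, ← Matrix.mulVec_mulVec, hA, hA, Matrix.mulVec_neg]

/-- central elements act as `1` or `-1` -/
theorem act_of_mem_center {A : SL(2, ZMod p)} (hA : A ∈ Subgroup.center SL(2, ZMod p)) :
    A = 1 ∨ ∀ s : Fin 2 → ZMod p, A.1 *ᵥ s = -s := by
  obtain ⟨r, hr, hrA⟩ := Matrix.SpecialLinearGroup.mem_center_iff.mp hA
  rw [Fintype.card_fin] at hr
  have h1 : (r - 1) * (r + 1) = 0 := by linear_combination hr
  rcases mul_eq_zero.mp h1 with h | h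
  · left
    apply Subtype.ext
    rw [← hrA, sub_eq_zero.mp h]
    simp
  · right
    intro s
    rw [← hrA, eq_neg_of_add_eq_zero_left h]
    funext i
    simp [Matrix.mulVec, dotProduct, Matrix.scalar_apply, Matrix.diagonal_apply]

/-- the central involution -/
def negOne : SL(2, ZMod p) := ⟨!![-1, 0; 0, -1], by simp [det_fin_two]⟩

theorem negOne_mulVec (s : Fin 2 → ZMod p) : (negOne (p := p)).1 *ᵥ s = -s := by
  funext i
  fin_cases i <;> simp [negOne, Matrix.mulVec, dotProduct, Fin.sum_univ_two]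


/-- **The section `Qd(p)`**: two elements `b`, `c` acting on `⟨v, w⟩` as the two standard
transvections produce a section isomorphic to `Qd(p)`. -/
theorem involves_qd {X : Type u} [Group X] [Finite X] (hp2 : p ≠ 2) (b c v w : X) (hv1 : v ≠ 1)
    (hvp : v ^ p = 1) (hwp : w ^ p = 1) (hvw : Commute v w)
    (hbv : b * v * b⁻¹ = v * w) (hbw : b * w * b⁻¹ = w) (hcv : c * v * c⁻¹ = v)
    (hcw : c * w * c⁻¹ = v * w) : Involves (qd p) X := by
  classical
  have : Fact (Nat.Prime 2) := ⟨Nat.prime_two⟩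
  obtain ⟨M, hM⟩ : ∃ M : Subgroup X, M = Subgroup.closure {b, c} := ⟨_, rfl⟩
  have hbM : b ∈ M := by rw [hM]; exact Subgroup.subset_closure (by simp)
  have hcM : c ∈ M := by rw [hM]; exact Subgroup.subset_closure (by simp)
  have hRb := repK_b hwp hvw hbv hbw
  have hRc := repK_c hvp hvw hcv hcw
  have huniq : ∀ {m : X} {A A' : SL(2, ZMod p)}, RepK v w m A → RepK v w m A' → A = A' :=
    fun h h' => RepK.unique hv1 hvp hwp hvw hcv hcw h h'
  have hgood : ∀ m : X, m ∈ M → ∃ A : SL(2, ZMod p), RepK v w m A := by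
    intro m hm
    rw [hM] at hm
    induction hm using Subgroup.closure_induction with
    | mem g hg =>
      rcases hg with rfl | hg
      · exact ⟨_, hRb⟩
      · rw [Set.mem_singleton_iff] at hg
        subst hg
        exact ⟨_, hRc⟩
    | one => exact ⟨1, RepK.one v w⟩
    | mul g h _ _ ihg ihh =>
      obtain ⟨A, hA⟩ := ihg
      obtain ⟨A', hA'⟩ := ihh
      exact ⟨A * A', hA.mul hA'⟩
    | inv g _ ih =>
      obtain ⟨A, hA⟩ := ih
      exact ⟨A⁻¹, hA.inv⟩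
  let α₀ : ↥M → SL(2, ZMod p) := fun m => Classical.choose (hgood m m.2)
  have hα₀ : ∀ m : ↥M, RepK v w (m : X) (α₀ m) := fun m => Classical.choose_spec (hgood m m.2)
  let α : ↥M →* SL(2, ZMod p) :=
    { toFun := α₀
      map_one' := huniq (hα₀ 1) (RepK.one v w)
      map_mul' := fun g h => huniq (hα₀ (g * h)) ((hα₀ g).mul (hα₀ h)) }
  have hα : ∀ m : ↥M, RepK v w (m : X) (α m) := hα₀
  have hαb : α ⟨b, hbM⟩ = sL 1 := huniq (hα ⟨b, hbM⟩) hRb
  have hαc : α ⟨c, hcM⟩ = sU 1 := huniq (hα ⟨c, hcM⟩) hRc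
  have hsurj : Function.Surjective α := by
    intro A
    have : A ∈ α.range := by
      apply mem_closure_of_forall
      · intro t
        have : t = ((ZMod.val t : ℕ) : ZMod p) := by simp
        rw [this, sU_nat]
        exact Subgroup.pow_mem _ (MonoidHom.mem_range.mpr ⟨_, hαc⟩) _
      · intro t
        have : t = ((ZMod.val t : ℕ) : ZMod p) := by simp
        rw [this, sL_nat]
        exact Subgroup.pow_mem _ (MonoidHom.mem_range.mpr ⟨_, hαb⟩) _
    exact this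
  -- the preimage of the centre
  obtain ⟨Z₀, hZ₀⟩ : ∃ Z₀ : Subgroup ↥M, Z₀ = (Subgroup.center SL(2, ZMod p)).comap α := ⟨_, rfl⟩
  have hZ₀n : Z₀.Normal := by rw [hZ₀]; infer_instance
  -- a `2`-element acting as `-1`
  obtain ⟨t', ht'⟩ := hsurj negOne
  obtain ⟨e, m₀, hm₀, hord⟩ := Nat.exists_eq_two_pow_mul_odd (orderOf_pos t').ne'
  obtain ⟨t₁, ht₁⟩ : ∃ t₁ : ↥M, t₁ = t' ^ m₀ := ⟨_, rfl⟩
  have ht₁pow : t₁ ^ (2 ^ e) = 1 := by
    rw [ht₁, ← pow_mul, mul_comm, ← hord, pow_orderOf_eq_one]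
  have ht₁neg : ∀ s : Fin 2 → ZMod p, (α t₁).1 *ᵥ s = -s := by
    intro s
    rw [ht₁, map_pow, ht', mulVec_pow_of_neg negOne_mulVec, hm₀.neg_one_pow]
    simp
  have ht₁Z : t₁ ∈ Z₀ := by
    rw [hZ₀, Subgroup.mem_comap]
    exact mem_center_of_neg ht₁neg
  have hP₁ : IsPGroup 2 ↥(Subgroup.zpowers (⟨t₁, ht₁Z⟩ : ↥Z₀)) := by
    rintro ⟨g, hg⟩
    obtain ⟨k, rfl⟩ := Subgroup.mem_zpowers_iff.mp hg
    refine ⟨e, ?_⟩
    apply Subtype.ext
    simp only [Subgroup.coe_pow, Subgroup.coe_one]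
    rw [← zpow_natCast, ← _root_.zpow_mul, mul_comm, _root_.zpow_mul, zpow_natCast]
    have : (⟨t₁, ht₁Z⟩ : ↥Z₀) ^ (2 ^ e) = 1 := Subtype.ext (by
      rw [Subgroup.coe_pow]; exact ht₁pow)
    rw [this, _root_.one_zpow]
  obtain ⟨T, hT⟩ := hP₁.exists_le_sylow
  have ht₁T : (⟨t₁, ht₁Z⟩ : ↥Z₀) ∈ T := hT (Subgroup.mem_zpowers _)
  obtain ⟨T', hT'⟩ : ∃ T' : Subgroup ↥M, T' = (T : Subgroup ↥Z₀).map Z₀.subtype := ⟨_, rfl⟩
  have ht₁T' : t₁ ∈ T' := by rw [hT']; exact ⟨⟨t₁, ht₁Z⟩, ht₁T, rfl⟩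
  have hT'2 : IsPGroup 2 ↥T' := by rw [hT']; exact T.2.map _
  obtain ⟨M₁, hM₁⟩ : ∃ M₁ : Subgroup ↥M, M₁ = Subgroup.normalizer (T' : Set ↥M) := ⟨_, rfl⟩
  have hfrat : M₁ ⊔ Z₀ = ⊤ := by
    rw [hM₁, hT']
    exact Sylow.normalizer_sup_eq_top T
  have ht₁M₁ : t₁ ∈ M₁ := by
    rw [hM₁]
    exact Subgroup.le_normalizer ht₁T'
  -- `M₁` covers `SL₂(p)`
  have hsurj₁ : ∀ A : SL(2, ZMod p), ∃ n ∈ M₁, α n = A := by
    intro A
    obtain ⟨m, rfl⟩ := hsurj A
    have hm : m ∈ M₁ ⊔ Z₀ := by rw [hfrat]; exact Subgroup.mem_top m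
    obtain ⟨n, hn, z, hz, rfl⟩ := Subgroup.mem_sup_of_normal_right.mp hm
    have hzc : α z ∈ Subgroup.center SL(2, ZMod p) := by
      rw [hZ₀] at hz; exact hz
    rcases act_of_mem_center hzc with h1 | h1
    · exact ⟨n, hn, by rw [map_mul, h1, mul_one]⟩
    · refine ⟨n * t₁, M₁.mul_mem hn ht₁M₁, ?_⟩
      rw [map_mul, map_mul]
      congr 1
      apply Subtype.ext
      rw [Matrix.ext_iff_mulVec]
      intro s
      rw [ht₁neg, h1]
  -- `M₁` meets the plane trivially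
  have hmeet : ∀ (s : Fin 2 → ZMod p) (n : ↥M), n ∈ M₁ → kap v w s = (n : X) → s = 0 := by
    intro s n hn hsn
    obtain ⟨x, hx⟩ : ∃ x : X, x = kap v w s := ⟨_, rfl⟩
    have hxn : (n : X) = x := by rw [hx, hsn]
    have h1 : (t₁ : X) * x * (t₁ : X)⁻¹ = x⁻¹ := by
      rw [hx, hα t₁ s, ht₁neg, kap_neg hvp hwp hvw]
    have h2 : n * t₁ * n⁻¹ * t₁⁻¹ ∈ T' := by
      apply T'.mul_mem _ (T'.inv_mem ht₁T')
      rw [hM₁] at hn
      exact (Subgroup.mem_normalizer_iff.mp hn t₁).mp ht₁T'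
    have h3 : ((n * t₁ * n⁻¹ * t₁⁻¹ : ↥M) : X) = x * x := by
      simp only [Subgroup.coe_mul, Subgroup.coe_inv]
      rw [hxn]
      have : (t₁ : X) * x⁻¹ * (t₁ : X)⁻¹ = x := by
        calc (t₁ : X) * x⁻¹ * (t₁ : X)⁻¹ = ((t₁ : X) * x * (t₁ : X)⁻¹)⁻¹ := by group
          _ = (x⁻¹)⁻¹ := by rw [h1]
          _ = x := inv_inv x
      calc x * (t₁ : X) * x⁻¹ * (t₁ : X)⁻¹ = x * ((t₁ : X) * x⁻¹ * (t₁ : X)⁻¹) := by group
        _ = x * x := by rw [this]
    obtain ⟨k, hk⟩ := hT'2 ⟨_, h2⟩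
    have h4 : (x * x) ^ (2 ^ k) = 1 := by
      have := congrArg (fun y : ↥T' => ((y : ↥M) : X)) hk
      simp only [Subgroup.coe_pow, Subgroup.coe_one] at this
      rw [h3] at this
      exact this
    have h5 : x ^ (2 ^ (k + 1)) = 1 := by
      rw [pow_succ, mul_comm, pow_mul, pow_two]; exact h4
    have h6 : x ^ p = 1 := by rw [hx]; exact kap_pow_p hvp hwp hvw s
    have hcop : Nat.Coprime (2 ^ (k + 1)) p := by
      apply Nat.Coprime.pow_left
      rw [Nat.coprime_primes Nat.prime_two Fact.out]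
      exact fun h => hp2 h.symm
    have h7 : orderOf x ∣ 1 := by
      have := Nat.dvd_gcd (orderOf_dvd_of_pow_eq_one h5) (orderOf_dvd_of_pow_eq_one h6)
      rwa [hcop] at this
    have h8 : x = 1 := orderOf_eq_one_iff.mp (Nat.dvd_one.mp h7)
    rw [hx] at h8
    exact kap_eq_one hv1 hvp hwp hvw hcv hcw h8
  -- the semidirect product
  apply Cfsg.Agent.Lib.Helper88.involves_of_spans
  obtain ⟨φ, hφ⟩ : ∃ φ : ↥M₁ →* MulAut (Multiplicative (Fin 2 → ZMod p)),
      φ = actHom.comp (α.comp M₁.subtype) := ⟨_, rfl⟩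
  -- the coordinate homomorphism
  let κ : Multiplicative (Fin 2 → ZMod p) →* X :=
    { toFun := fun s => kap v w (Multiplicative.toAdd s)
      map_one' := kap_zero
      map_mul' := fun s s' => by
        show kap v w (Multiplicative.toAdd s + Multiplicative.toAdd s') = _
        exact kap_add hvp hwp hvw _ _ }
  let j₂ : ↥M₁ →* X := M.subtype.comp M₁.subtype
  have hcompat : ∀ n : ↥M₁, κ.comp (φ n).toMonoidHom = (MulAut.conj (j₂ n)).toMonoidHom.comp κ := by
    intro n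
    apply MonoidHom.ext
    intro s
    show kap v w (Multiplicative.toAdd (φ n s)) = j₂ n * kap v w (Multiplicative.toAdd s) * (j₂ n)⁻¹
    rw [hφ]
    show kap v w ((α (n : ↥M)).1 *ᵥ Multiplicative.toAdd s) = _
    rw [← hα (n : ↥M)]
    rfl
  let ι : Multiplicative (Fin 2 → ZMod p) ⋊[φ] ↥M₁ →* X := SemidirectProduct.lift κ j₂ hcompat
  -- the map to `Qd(p)`
  let f₁ : Multiplicative (Fin 2 → ZMod p) →* ↥(qd p) :=
    { toFun := fun s => ⟨aff (Multiplicative.toAdd s) 1, aff_mem_qd _ _⟩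
      map_one' := Subtype.ext aff_zero_one
      map_mul' := fun s s' => by
        apply Subtype.ext
        show aff (Multiplicative.toAdd s + Multiplicative.toAdd s') 1 = aff _ 1 * aff _ 1
        rw [aff_mul]
        simp }
  let f₂ : ↥M₁ →* ↥(qd p) :=
    { toFun := fun n => ⟨aff 0 (α (n : ↥M)), aff_mem_qd _ _⟩
      map_one' := by
        apply Subtype.ext
        show aff 0 (α ((1 : ↥M₁) : ↥M)) = 1
        rw [Subgroup.coe_one, map_one, aff_zero_one]
      map_mul' := fun n n' => by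
        apply Subtype.ext
        show aff 0 (α ((n * n' : ↥M₁) : ↥M)) = aff 0 (α n) * aff 0 (α n')
        rw [aff_mul, Subgroup.coe_mul, map_mul]
        simp }
  have hcompat' : ∀ n : ↥M₁, f₁.comp (φ n).toMonoidHom = (MulAut.conj (f₂ n)).toMonoidHom.comp f₁ := by
    intro n
    apply MonoidHom.ext
    intro s
    apply Subtype.ext
    show aff (Multiplicative.toAdd (φ n s)) 1 =
      aff 0 (α (n : ↥M)) * aff (Multiplicative.toAdd s) 1 * (aff 0 (α (n : ↥M)))⁻¹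
    rw [eq_mul_inv_iff_mul_eq, aff_mul, aff_mul, hφ]
    show aff (((α (n : ↥M)).1 *ᵥ Multiplicative.toAdd s) + _) _ = _
    simp
  let f : Multiplicative (Fin 2 → ZMod p) ⋊[φ] ↥M₁ →* ↥(qd p) := SemidirectProduct.lift f₁ f₂ hcompat'
  refine ⟨Multiplicative (Fin 2 → ZMod p) ⋊[φ] ↥M₁, inferInstance, ι, f, ?_, ?_⟩
  · rw [injective_iff_map_eq_one]
    intro g hg
    have h1 : ι g = κ g.left * j₂ g.right := by
      conv_lhs => rw [← SemidirectProduct.inl_left_mul_inr_right g]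
      rw [map_mul, SemidirectProduct.lift_inl, SemidirectProduct.lift_inr]
    rw [h1] at hg
    have h2 : kap v w (Multiplicative.toAdd g.left) = (((g.right⁻¹ : ↥M₁) : ↥M) : X) := by
      have : κ g.left = (j₂ g.right)⁻¹ := eq_inv_of_mul_eq_one_left hg
      rw [Subgroup.coe_inv, Subgroup.coe_inv]
      exact this
    have h3 := hmeet _ _ (g.right⁻¹).2 h2
    have h4 : g.left = 1 := h3
    have h5 : j₂ g.right = 1 := by
      rw [h4, map_one, one_mul] at hg; exact hg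
    have h6 : g.right = 1 := by
      apply Subtype.ext
      apply Subtype.ext
      exact h5
    exact SemidirectProduct.ext h4 h6
  · rintro ⟨g, hg⟩
    obtain ⟨s, A, rfl⟩ := exists_aff_of_mem_qd g hg
    obtain ⟨n, hn, rfl⟩ := hsurj₁ A
    refine ⟨⟨Multiplicative.ofAdd s, ⟨n, hn⟩⟩, ?_⟩
    have h1 : f ⟨Multiplicative.ofAdd s, ⟨n, hn⟩⟩ = f₁ (Multiplicative.ofAdd s) * f₂ ⟨n, hn⟩ := by
      conv_lhs => rw [← SemidirectProduct.inl_left_mul_inr_right
        (⟨Multiplicative.ofAdd s, ⟨n, hn⟩⟩ : Multiplicative (Fin 2 → ZMod p) ⋊[φ] ↥M₁)]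
      rw [map_mul, SemidirectProduct.lift_inl, SemidirectProduct.lift_inr]
    rw [h1]
    apply Subtype.ext
    show aff s 1 * aff 0 (α n) = aff s (α n)
    rw [aff_mul]
    simp

end Cfsg.Agent.Lib.Helper35.Qd
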