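import Mathlib
import Cfsg.Agent.Lib.Helper35.PStabGen
import Cfsg.Agent.Lib.Helper35.GenFinal
import Cfsg.Agent.Lib.Helper35.Qd.EigenAbs
import Cfsg.Agent.Lib.Helper35.Qd.Section
import Cfsg.Agent.S0199

set_option autoImplicit false
set_option linter.unusedSectionVars false

/-! `p`-stability on an elementary abelian normal `p`-subgroup of a `Qd(p)`-free group. -/

namespace Cfsg.Agent.Lib.Helper35.Qd

open Cfsg Cfsg.Agent.Lib.Helper35 Cfsg.Agent.Lib.Helper35.GenQuad Cfsg.Agent.Lib.Helper22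
  Cfsg.Agent.Lib.Helper35.PStab
open scoped commutatorElement IsMulCommutative

universe u

theorem quad_mem_of_qd_free {p : ℕ} [Fact p.Prime] (hp2 : p ≠ 2) {X : Type u} [Group X]
    [Finite X] (hfree : ¬ Involves ↥(qd p) X) (P : Subgroup X) [hPn : P.Normal]
    (hPc : ∀ x ∈ P, ∀ y ∈ P, x * y = y * x) (hPe : ∀ x ∈ P, x ^ p = 1)
    (a : X) (hq : ∀ v ∈ P, ⁅a, ⁅a, v⁆⁆ = 1) :
    ∃ D : Subgroup X, D.Normal ∧ a ∈ D ∧
      ∀ d ∈ D, ∃ k : ℕ, d ^ (p ^ k) ∈ Subgroup.centralizer (P : Set X) := by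
  classical
  obtain ⟨Cn, hCn⟩ : ∃ Cn : Subgroup X, Cn = Subgroup.centralizer (P : Set X) := ⟨_, rfl⟩
  have hCnn : Cn.Normal := by rw [hCn]; exact Subgroup.normal_centralizer
  rw [← hCn]
  by_cases hmem : (QuotientGroup.mk a : X ⧸ Cn) ∈ pCore p (X ⧸ Cn)
  · refine ⟨(pCore p (X ⧸ Cn)).comap (QuotientGroup.mk' Cn),
      (pCore_normal' p (X ⧸ Cn)).comap _, hmem, ?_⟩
    intro d hd
    obtain ⟨k, hk⟩ := (pCore_isPGroup' p (X ⧸ Cn)) ⟨_, hd⟩
    refine ⟨k, ?_⟩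
    have h1 := congrArg Subtype.val hk
    rw [Subgroup.coe_pow, Subgroup.coe_one] at h1
    rw [← QuotientGroup.eq_one_iff]
    exact h1
  exfalso
  apply hfree
  have instC : IsMulCommutative P := ⟨⟨fun x y => Subtype.ext (hPc x x.2 y y.2)⟩⟩
  have hVe : ∀ v : ↥P, v ^ p = 1 := fun v => Subtype.ext (by
    have := hPe v v.2
    simpa using this)
  have hN : ∀ H : Subgroup X, H ≤ Subgroup.normalizer (P : Set X) := by
    intro H
    rw [Subgroup.normalizer_eq_top]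
    exact le_top
  -- elements acting trivially lie in the centralizer
  have hcen : ∀ (H : Subgroup X) (d : ↥H), conjOn P H (hN H) d = 1 → (d : X) ∈ Cn := by
    intro H d hd
    rw [hCn, Subgroup.mem_centralizer_iff]
    intro v hv
    have := congrArg (fun f : MulAut ↥P => ((f ⟨v, hv⟩ : ↥P) : X)) hd
    simp only [conjOn_apply, MulAut.one_apply] at this
    calc v * (d : X) = ((d : X) * v * (d : X)⁻¹) * (d : X) := by rw [this]
      _ = (d : X) * v := by group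
  obtain ⟨ab, hab⟩ : ∃ ab : X ⧸ Cn, ab = QuotientGroup.mk a := ⟨_, rfl⟩
  rw [← hab] at hmem
  have habp : ab ^ p = 1 := by
    rw [hab, ← QuotientGroup.mk_pow, QuotientGroup.eq_one_iff]
    have h1 := hcen ⊤ (⟨a, Subgroup.mem_top a⟩ ^ p) (by
      rw [map_pow]
      ext v
      rw [quad_pow _ (conjOn_quad P ⊤ (hN ⊤) ⟨a, Subgroup.mem_top a⟩ hq) p v, hVe, one_mul]
      rfl)
    simpa using h1
  have hX₀ : IsPGroup p ↥(Subgroup.zpowers ab) := by
    rintro ⟨x, hx⟩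
    obtain ⟨k, rfl⟩ := Subgroup.mem_zpowers_iff.mp hx
    refine ⟨1, ?_⟩
    apply Subtype.ext
    simp only [Subgroup.coe_pow, Subgroup.coe_one, pow_one]
    rw [← zpow_natCast, ← zpow_mul, mul_comm, zpow_mul, zpow_natCast, habp, one_zpow]
  have hBS : ∃ g : X ⧸ Cn, ¬ IsPGroup p
      ↥(Subgroup.zpowers ab ⊔ (Subgroup.zpowers ab).map (MulAut.conj g).toMonoidHom) := by
    by_contra hcon
    push Not at hcon
    obtain ⟨N, hNn, hNp, hXN⟩ := Cfsg.Agent.S0199.result (Subgroup.zpowers ab) hX₀ hcon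
    exact hmem (le_pCore' hNn hNp (hXN (Subgroup.mem_zpowers ab)))
  obtain ⟨gb, hg⟩ := hBS
  obtain ⟨g, rfl⟩ := QuotientGroup.mk_surjective gb
  obtain ⟨b, hb⟩ : ∃ b : X, b = g * a * g⁻¹ := ⟨_, rfl⟩
  obtain ⟨H, hH⟩ : ∃ H : Subgroup X, H = Subgroup.closure {a, b} := ⟨_, rfl⟩
  have haH : a ∈ H := by rw [hH]; exact Subgroup.subset_closure (by simp)
  have hbH : b ∈ H := by rw [hH]; exact Subgroup.subset_closure (by simp)
  have hmap : H.map (QuotientGroup.mk' Cn) = Subgroup.zpowers ab ⊔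
      (Subgroup.zpowers ab).map (MulAut.conj (QuotientGroup.mk g : X ⧸ Cn)).toMonoidHom := by
    rw [hH, MonoidHom.map_closure, Set.image_pair, MonoidHom.map_zpowers,
      Subgroup.zpowers_eq_closure, Subgroup.zpowers_eq_closure, ← Subgroup.closure_union, hb, hab]
    rfl
  rw [← hmap] at hg
  have hqb : ∀ v ∈ P, ⁅b, ⁅b, v⁆⁆ = 1 := by
    rw [hb]
    exact Cfsg.Agent.Lib.Helper35.GenQuad.quad_conj P g a (hN ⊤ (Subgroup.mem_top g)) hq
  obtain ⟨c, b', v, w, hv1, hbv, hbw, hcv, hcw⟩ := exists_qd_config hp2 hVe (conjOn P H (hN H))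
    ⟨a, haH⟩ ⟨b, hbH⟩ (closure_pair_eq_top H a b hH haH hbH)
    (conjOn_quad P H (hN H) ⟨a, haH⟩ hq) (conjOn_quad P H (hN H) ⟨b, hbH⟩ hqb) (by
      rintro ⟨j, hj⟩
      apply hg
      rintro ⟨_, d, hd, rfl⟩
      refine ⟨j, ?_⟩
      apply Subtype.ext
      rw [Subgroup.coe_pow, Subgroup.coe_one]
      show (QuotientGroup.mk' Cn d) ^ (p ^ j) = 1
      rw [← map_pow, QuotientGroup.mk'_apply, QuotientGroup.eq_one_iff]
      have := hcen H (⟨d, hd⟩ ^ (p ^ j)) (by rw [map_pow]; exact hj ⟨d, hd⟩)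
      simpa using this)
  have e := fun (h : ↥H) (x : ↥P) => conjOn_apply P H (hN H) h x
  apply involves_qd hp2 (b' : X) (c : X) (v : X) (w : X)
  · intro h
    exact hv1 (Subtype.ext h)
  · have := congrArg Subtype.val (hVe v)
    simpa using this
  · have := congrArg Subtype.val (hVe w)
    simpa using this
  · exact hPc v v.2 w w.2
  · rw [← e, hbv]; rfl
  · rw [← e, hbw]
  · rw [← e, hcv]
  · rw [← e, hcw]; rfl

end Cfsg.Agent.Lib.Helper35.Qd
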